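import Cfsg.Agent.AschbacherForms.TensorQuad
import Cfsg.Agent.Forms.Diagonal
import Cfsg.Agent.MaxSub.QuadraticBasic

/-!
Over three elements a three-dimensional symmetric factor has a unique frame.
-/

set_option autoImplicit false
set_option linter.unusedSectionVars false
set_option linter.style.haveILetI false

namespace CfsgLib.AschbacherForms

attribute [-simp] RingEquiv.coe_refl

open Matrix CfsgLib.Aschbacher
open scoped Kronecker

variable {ι : Type} [Fintype ι] [DecidableEq ι] {F : Type*} [Field F] [Fintype F]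

theorem cases_card_three (hq : Fintype.card F = 3) (x : F) : x = 0 ∨ x = 1 ∨ x = -1 := by
  classical
  have h2 : (2 : F) ≠ 0 := MaxSub.two_ne_zero_of_odd (by rw [hq]; decide)
  have h1 : (1 : F) ≠ -1 := fun h => h2 (by linear_combination h)
  have hS : ({0, 1, -1} : Finset F) = Finset.univ := by
    apply Finset.eq_univ_of_card
    rw [hq, Finset.card_insert_of_notMem (by simp [eq_comm (a := (0 : F))]),
      Finset.card_pair h1]
  have hx : x ∈ ({0, 1, -1} : Finset F) := hS ▸ Finset.mem_univ x
  simpa using hx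

theorem three_eq_zero_of_card_three (hq : Fintype.card F = 3) : (3 : F) = 0 := by
  have h := FiniteField.cast_card_eq_zero F
  rw [hq] at h
  exact_mod_cast h

/-- A frame of three orthogonal vectors of equal value. -/
theorem exists_frame_three (hq : Fintype.card F = 3) {T : Matrix (Fin 3) (Fin 3) F} (hT : IsUnit T)
    (hTs : Tᵀ = T) :
    ∃ (c : F) (v : Module.Basis (Fin 3) F (Fin 3 → F)), c ≠ 0 ∧
      ∀ i j, formOf (RingEquiv.refl F) T (v i) (v j) = if i = j then c else 0 := by
  have h2 : (2 : F) ≠ 0 := MaxSub.two_ne_zero_of_odd (by rw [hq]; decide)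
  have h3 := three_eq_zero_of_card_three hq
  have hbil := isBilinearForm_formOf (F := F) T
  have hsymm := (isSymmetricForm_formOf hT hTs).symm
  have hval : ∀ x y, Matrix.toBilin' T x y = formOf (RingEquiv.refl F) T x y := fun x y => by
    rw [Matrix.toBilin'_apply']; rfl
  have hnsq : ¬ IsSquare (-1 : F) := by
    rintro ⟨r, hr⟩
    rcases cases_card_three hq r with rfl | rfl | rfl
    · simp at hr
    · exact h2 (by linear_combination (-1 : F) * hr)
    · exact h2 (by linear_combination (-1 : F) * hr)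
  obtain ⟨b, hb0, hb1, hb2⟩ := Forms.exists_diagonal_basis_symm h2 (Matrix.toBilin' T)
    ⟨fun x y => by rw [hval, hval, hsymm]⟩
    (fun x hx => by
      by_contra hne
      obtain ⟨y, hy⟩ := (nondegenerate_formOf (RingEquiv.refl F) hT x hne).2
      exact hy (by rw [← hval]; exact hx y))
    hnsq (n := 2) (by rw [Module.finrank_fintype_fun_eq_card, Fintype.card_fin])
  simp only [hval] at hb0 hb1 hb2
  have e0 : formOf (RingEquiv.refl F) T (b 0) (b 0) = 1 := hb1 0 (by decide)
  have e1 : formOf (RingEquiv.refl F) T (b 1) (b 1) = 1 := hb1 1 (by decide)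
  suffices h : ∃ (c : F) (v : Fin 3 → Fin 3 → F), c ≠ 0 ∧
      ∀ i j, formOf (RingEquiv.refl F) T (v i) (v j) = if i = j then c else 0 by
    obtain ⟨c, v, hc, hv⟩ := h
    have hli : LinearIndependent F v := Fintype.linearIndependent_iff.2 fun g hg i => by
      have h1 : formOf (RingEquiv.refl F) T (∑ j, g j • v j) (v i) = 0 := by rw [hg]; simp [formOf]
      have h2' : formOf (RingEquiv.refl F) T (∑ j, g j • v j) (v i) = g i * c := by
        have hs : IsSesq (RingEquiv.refl F) (formOf (RingEquiv.refl F) T) := isSesq_of_bilinear hbil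
        rw [hs.sum_left, Finset.sum_eq_single i (fun j _ hji => by rw [hbil.smul_left, hv, if_neg hji, mul_zero])
          (fun h => absurd (Finset.mem_univ i) h), hbil.smul_left, hv, if_pos rfl]
      exact (mul_eq_zero.1 (h2'.symm.trans h1)).resolve_right hc
    refine ⟨c, basisOfLinearIndependentOfCardEqFinrank hli (by simp), hc, ?_⟩
    simpa [coe_basisOfLinearIndependentOfCardEqFinrank] using hv
  rcases hb2 with e2 | e2
  · refine ⟨1, b, one_ne_zero, fun i j => ?_⟩
    rcases eq_or_ne i j with rfl | hij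
    · rw [if_pos rfl]
      fin_cases i <;> assumption
    · rw [if_neg hij, hb0 i j hij]
  · have h01 := hb0 0 1 (by decide)
    have h10 := hb0 1 0 (by decide)
    have h02 := hb0 0 2 (by decide)
    have h12 := hb0 1 2 (by decide)
    have h20 := hb0 2 0 (by decide)
    have h21 := hb0 2 1 (by decide)
    have e2' : formOf (RingEquiv.refl F) T (b 2) (b 2) = -1 := e2
    refine ⟨-1, ![b 0 + b 1, b 0 + (2 : F) • b 1, b 2], neg_ne_zero.2 one_ne_zero, fun i j => ?_⟩
    fin_cases i <;> fin_cases j <;>
      simp [hbil.add_left, hbil.add_right, hbil.smul_left, hbil.smul_right, h01, h10, h02, h12, h20, h21,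
        e0, e1, e2'] <;>
      first
      | linear_combination h3
      | linear_combination 2 * h3
      | linear_combination (0 : F) * h3
      | linear_combination -h3

/-- A symmetric factor of dimension three over three elements gives an orthogonal decomposition. -/
theorem frame_decomposition (hq : Fintype.card F = 3) {ε : F} {f : (ι → F) → (ι → F) → F}
    (hf : IsReflexive (RingEquiv.refl F) ε f) {H : Subgroup (GL ι F)}
    (hfix : Cfsg.Geo.FixesForm (Cfsg.Geo.matrixSet H) f)
    (hirr : Cfsg.Geo.ActsIrreducibly (Cfsg.Geo.matrixSet H)) {k : ℕ} (hk : 0 < k)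
    {e : ι ≃ Fin k × Fin 3} {P : GL ι F} {S : Matrix (Fin k) (Fin k) F} {T : Matrix (Fin 3) (Fin 3) F}
    (hS : IsUnit S) (hT : IsUnit T) (hTs : Tᵀ = T)
    (hle : H ≤ Cfsg.Geo.tensorProductSubgroup k 3 e P)
    (hform : ∀ x y : Fin k × Fin 3 → F, f (mat P *ᵥ (x ∘ e)) (mat P *ᵥ (y ∘ e)) =
      Cfsg.Geo.formOfGram (RingEquiv.refl F) (S ⊗ₖ T) x y) :
    ∃ D : Fin 3 → Submodule F (ι → F), Cfsg.Geo.IsNondegenerateMDecomposition f k D ∧
      H ≤ Cfsg.Geo.decompositionStabilizer D := by
  classical
  haveI : Nonempty (Fin k) := ⟨⟨0, hk⟩⟩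
  obtain ⟨c, v, hc, hv⟩ := exists_frame_three hq hT hTs
  set β := formOf (RingEquiv.refl F) T with hβ
  have hbil := isBilinearForm_formOf (F := F) T
  have hsymm := (isSymmetricForm_formOf hT hTs).symm
  have hdot : ∀ w u : Fin 3 → F, (T *ᵥ w) ⬝ᵥ u = β w u := fun w u => by
    rw [dotProduct_comm]; exact hsymm u w
  let p : (Fin 3 → F) → Matrix (Fin 3) (Fin 3) F := fun w => c⁻¹ • Matrix.vecMulVec w (T *ᵥ w)
  have hp : ∀ w u, p w *ᵥ u = (c⁻¹ * β w u) • w := fun w u => by
    simp only [p, Matrix.smul_mulVec]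
    rw [Matrix.vecMulVec_mulVec, hdot]
    ext i
    simp only [Pi.smul_apply, MulOpposite.smul_eq_mul_unop, smul_eq_mul, MulOpposite.unop_op]
    ring
  have hext : ∀ A B : Matrix (Fin 3) (Fin 3) F, (∀ j, A *ᵥ v j = B *ᵥ v j) → A = B := fun A B h =>
    Matrix.toLin'.injective (v.ext fun j => by simpa using h j)
  have hpv : ∀ i j, p (v i) *ᵥ v j = if i = j then v i else 0 := fun i j => by
    rw [hp, hv]
    split_ifs with h
    · rw [inv_mul_cancel₀ hc, one_smul]
    · rw [mul_zero, zero_smul]
  have hneg : ∀ w, p (-w) = p w := fun w => by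
    simp only [p, Matrix.mulVec_neg]
    congr 1
    ext i j
    simp [Matrix.vecMulVec_apply]
  let en : Fin 3 → Matrix ι ι F := fun i => tensorEquiv e P ((1 : Matrix (Fin k) (Fin k) F) ⊗ₖ p (v i))
  have hmul : ∀ i j, en i * en j = if i = j then en i else 0 := by
    intro i j
    simp only [en]
    rw [← map_mul, ← Matrix.mul_kronecker_mul, one_mul]
    have h1 : p (v i) * p (v j) = if i = j then p (v i) else 0 := hext _ _ fun l => by
      rw [← Matrix.mulVec_mulVec, hpv]
      rcases eq_or_ne i j with rfl | hij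
      · rw [if_pos rfl]
        split_ifs with h
        · rw [hpv, if_pos rfl, hpv, if_pos h]
        · rw [Matrix.mulVec_zero, hpv, if_neg h]
      · rw [if_neg hij, Matrix.zero_mulVec]
        split_ifs with h
        · rw [hpv, if_neg hij]
        · rw [Matrix.mulVec_zero]
    rw [h1]
    split_ifs
    · rfl
    · rw [Matrix.kronecker_zero, map_zero]
  have hne : ∀ i, en i ≠ 0 := by
    intro i h0
    simp only [en] at h0
    rw [← map_zero (tensorEquiv e P)] at h0
    have h1 := (tensorEquiv e P).injective h0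
    have h2 : p (v i) = 0 := by
      ext a b
      simpa using congrFun (congrFun h1 (Classical.arbitrary _, a)) (Classical.arbitrary _, b)
    have h3 := hpv i i
    rw [h2, Matrix.zero_mulVec, if_pos rfl] at h3
    exact v.ne_zero i h3.symm
  have hinj : Function.Injective en := fun i j hij => by
    by_contra h
    have h1 := hmul i i
    rw [if_pos rfl] at h1
    nth_rw 2 [hij] at h1
    rw [hmul, if_neg h] at h1
    exact hne i h1.symm
  let E : Finset (Matrix ι ι F) := Finset.univ.image en
  have hEmem : ∀ {x}, x ∈ E ↔ ∃ i, en i = x := fun {x} => by simp [E]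
  have hEcard : E.card = 3 := by rw [Finset.card_image_of_injective _ hinj, Finset.card_univ, Fintype.card_fin]
  have hframe : ∀ w, β w w = c → ∃ i, w = v i ∨ w = -(v i) := by
    intro w hw
    have hrep := v.sum_repr w
    rw [Fin.sum_univ_three] at hrep
    set x := v.repr w
    have hsum : x 0 * x 0 + x 1 * x 1 + x 2 * x 2 = 1 := by
      apply mul_right_cancel₀ hc
      rw [one_mul]
      conv_rhs => rw [← hw, ← hrep]
      simp only [hbil.add_left, hbil.add_right, hbil.smul_left, hbil.smul_right, hv, β]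
      simp
      ring
    have h3 := three_eq_zero_of_card_three hq
    have h2 : (2 : F) ≠ 0 := MaxSub.two_ne_zero_of_odd (by rw [hq]; decide)
    rcases cases_card_three hq (x 0) with h | h | h <;>
      rcases cases_card_three hq (x 1) with h' | h' | h' <;>
      rcases cases_card_three hq (x 2) with h'' | h'' | h'' <;>
      rw [h, h', h''] at hrep hsum <;>
      first
      | exact absurd (by linear_combination hsum : (1 : F) = 0) one_ne_zero
      | exact absurd (by linear_combination -hsum : (1 : F) = 0) one_ne_zero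
      | exact absurd (by linear_combination hsum - h3 : (-1 : F) = 0) (neg_ne_zero.2 one_ne_zero)
      | (refine ⟨0, Or.inl ?_⟩; rw [← hrep]; simp; done)
      | (refine ⟨0, Or.inr ?_⟩; rw [← hrep]; simp; done)
      | (refine ⟨1, Or.inl ?_⟩; rw [← hrep]; simp; done)
      | (refine ⟨1, Or.inr ?_⟩; rw [← hrep]; simp; done)
      | (refine ⟨2, Or.inl ?_⟩; rw [← hrep]; simp; done)
      | (refine ⟨2, Or.inr ?_⟩; rw [← hrep]; simp; done)
  have hfixH := fixesForm_iff.1 hfix
  have hE : IsFamily H E := by
    refine ⟨fun x hx => ?_, fun x hx => ?_, fun x hx y hy hxy => ?_, ?_, fun h hh x hx => ?_⟩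
    · obtain ⟨i, rfl⟩ := hEmem.1 hx
      rw [hmul, if_pos rfl]
    · obtain ⟨i, rfl⟩ := hEmem.1 hx
      exact hne i
    · obtain ⟨i, rfl⟩ := hEmem.1 hx
      obtain ⟨j, rfl⟩ := hEmem.1 hy
      rw [hmul, if_neg fun h => hxy (congrArg en h)]
    · rw [Finset.sum_image hinj.injOn]
      simp only [en]
      rw [← map_sum]
      have h1 : ∑ i, p (v i) = 1 := hext _ _ fun j => by
        rw [Matrix.sum_mulVec, Matrix.one_mulVec]
        simp only [hpv]
        simp
      rw [show (∑ i, (1 : Matrix (Fin k) (Fin k) F) ⊗ₖ p (v i)) = (1 : Matrix (Fin k) (Fin k) F) ⊗ₖ (∑ i, p (v i)) from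
        (map_sum (Matrix.kroneckerBilinear (R := F) (1 : Matrix (Fin k) (Fin k) F)) _ _).symm, h1,
        Matrix.one_kronecker_one, map_one]
    · obtain ⟨i, rfl⟩ := hEmem.1 hx
      obtain ⟨a, b, hab⟩ := exists_of_mem_tensorProductSubgroup (hle hh)
      obtain ⟨μ, hμ, -, hb⟩ := factors_similitude hf hS.ne_zero hT.ne_zero hform
        (fun u v => hfixH h hh u v) hab
      rw [show (mat b).map (RingEquiv.refl F) = mat b from Matrix.ext fun _ _ => rfl] at hb
      have hμ1 : μ⁻¹ = 1 := by
        have hd := congrArg Matrix.det hb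
        rw [Matrix.det_mul, Matrix.det_mul, Matrix.det_transpose, Matrix.det_smul, Fintype.card_fin] at hd
        have hT0 : T.det ≠ 0 := ((Matrix.isUnit_iff_isUnit_det _).1 hT).ne_zero
        have hb0 : (mat b).det ≠ 0 := ((Matrix.isUnit_iff_isUnit_det _).1 b.isUnit).ne_zero
        have hd' : (mat b).det * (mat b).det = μ⁻¹ ^ 3 := by
          apply mul_right_cancel₀ hT0
          linear_combination hd
        rcases cases_card_three hq μ⁻¹ with h1 | h1 | h1
        · exact absurd h1 (inv_ne_zero hμ)
        · exact h1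
        · exfalso
          rw [h1] at hd'
          have h3 := three_eq_zero_of_card_three hq
          have h2 : (2 : F) ≠ 0 := MaxSub.two_ne_zero_of_odd (by rw [hq]; decide)
          rcases cases_card_three hq (mat b).det with h4 | h4 | h4
          · exact hb0 h4
          · exact h2 (by rw [h4] at hd'; linear_combination hd')
          · exact h2 (by rw [h4] at hd'; linear_combination hd')
      rw [hμ1, one_smul] at hb
      have hinv : ∀ w u, β (mat b *ᵥ w) (mat b *ᵥ u) = β w u := fun w u => by
        show (mat b *ᵥ w) ⬝ᵥ (T *ᵥ (mat b *ᵥ u)) = w ⬝ᵥ (T *ᵥ u)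
        conv_rhs => rw [← hb]
        rw [Matrix.mulVec_mulVec u T, mul_assoc, ← Matrix.mulVec_mulVec u (mat b)ᵀ,
          Matrix.dotProduct_mulVec w (mat b)ᵀ, Matrix.vecMul_transpose]
      obtain ⟨j, hj⟩ := hframe (mat b *ᵥ v i) (by rw [hinv, hv, if_pos rfl])
      refine hEmem.2 ⟨j, ?_⟩
      have hbp : mat b * p (v i) = p (v j) * mat b := by
        have hpj : p (v j) = p (mat b *ᵥ v i) := by rcases hj with hj | hj <;> simp [hj, hneg]
        rw [hpj]
        refine hext _ _ fun l => ?_
        rw [← Matrix.mulVec_mulVec, ← Matrix.mulVec_mulVec, hp, hp, hinv, Matrix.mulVec_smul]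
      have h1 : mat h * en i = en j * mat h := by
        simp only [en, hab]
        rw [← map_mul, ← map_mul, ← Matrix.mul_kronecker_mul, ← Matrix.mul_kronecker_mul, mul_one, one_mul,
          hbp]
      rw [h1, mul_assoc, mat_mul_inv, mul_one]
  obtain ⟨m, D, hD, hm, hle'⟩ := exists_orthDecomposition_card hf hE hirr (by omega) fun x hx => by
    obtain ⟨i, rfl⟩ := hEmem.1 hx
    symm
    refine hf.adj_unique fun u w => ?_
    obtain ⟨u, rfl⟩ := (coords e P).surjective u
    obtain ⟨w, rfl⟩ := (coords e P).surjective w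
    simp only [en, tensorEquiv_mulVec]
    show coordForm f e P _ w = coordForm f e P u _
    have hG := (isReflexive_coordForm hf e P).sesq
    rw [hG.gram_eq, hG.gram_eq, gram_coordForm hform]
    show (((1 : Matrix (Fin k) (Fin k) F) ⊗ₖ p (v i)) *ᵥ u) ⬝ᵥ ((S ⊗ₖ T) *ᵥ w) =
      u ⬝ᵥ ((S ⊗ₖ T) *ᵥ (((1 : Matrix (Fin k) (Fin k) F) ⊗ₖ p (v i)) *ᵥ w))
    rw [Matrix.mulVec_mulVec, ← Matrix.vecMul_transpose, ← Matrix.dotProduct_mulVec, Matrix.mulVec_mulVec,
      ← Matrix.kroneckerMap_transpose, ← Matrix.mul_kronecker_mul, ← Matrix.mul_kronecker_mul,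
      Matrix.transpose_one, one_mul, mul_one]
    congr 3
    simp only [p, Matrix.transpose_smul, Matrix.transpose_vecMulVec, Matrix.smul_mul, Matrix.mul_smul,
      Matrix.vecMulVec_mul, Matrix.mul_vecMulVec]
    rw [← Matrix.mulVec_transpose, hTs]
  revert D
  rw [hEcard] at hm ⊢
  intro D hD hle'
  have hk3 : Fintype.card ι = k * 3 := by
    rw [Fintype.card_congr e, Fintype.card_prod, Fintype.card_fin, Fintype.card_fin]
  obtain rfl : m = k := by omega
  exact ⟨D, hD, hle'⟩

end CfsgLib.AschbacherForms
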