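import Cfsg.Agent.AschbacherForms.Adjoint
import Cfsg.Agent.MaxSub.UnitaryBasic

/-!
Invariant forms of an absolutely irreducible group: uniqueness, and descent to subfields.
-/

set_option autoImplicit false
set_option linter.unusedSectionVars false
set_option linter.style.haveILetI false

namespace CfsgLib.AschbacherForms

open Matrix CfsgLib.Aschbacher

variable {ι : Type} [Fintype ι] [DecidableEq ι] {F : Type*} [Field F]

theorem fixesForm_smul_eq {σ : F ≃+* F} {ε : F} {f g : (ι → F) → (ι → F) → F}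
    (hf : IsReflexive σ ε f) (hg : IsSesq σ g) {R : Subgroup (GL ι F)}
    (hR : Cfsg.Geo.ActsAbsolutelyIrreducibly (Cfsg.Geo.matrixSet R))
    (hfR : Cfsg.Geo.FixesForm (Cfsg.Geo.matrixSet R) f)
    (hgR : Cfsg.Geo.FixesForm (Cfsg.Geo.matrixSet R) g) : ∃ c : F, ∀ u v, g u v = c * f u v := by
  rw [Cfsg.Geo.FixesForm, forall_matrixSet] at hfR hgR
  set G := Cfsg.Geo.gramMatrix f
  set N : Matrix ι ι F := (G⁻¹ * Cfsg.Geo.gramMatrix g).map σ.symm with hN
  have hfg : ∀ u v, g u v = f u (N *ᵥ v) := by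
    intro u v
    have h2 : (fun i => σ ((N *ᵥ v) i)) = (N.map σ) *ᵥ fun i => σ (v i) := by
      funext i
      simp [Matrix.mulVec, dotProduct, map_sum, map_mul]
    have h1 : N.map σ = G⁻¹ * Cfsg.Geo.gramMatrix g := by
      ext i j
      simp only [hN, Matrix.map_apply, RingEquiv.apply_symm_apply]
    rw [hg.gram_eq, hf.sesq.gram_eq, h2, h1, Matrix.mulVec_mulVec, ← mul_assoc,
      Matrix.mul_nonsing_inv _ hf.gram_det_unit, one_mul]
  obtain ⟨c, hc⟩ := commute_of_absIrred hR (M := N) fun x hx => by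
    apply Matrix.toLin'.injective
    refine LinearMap.ext fun v => ?_
    rw [Matrix.toLin'_apply, Matrix.toLin'_apply, ← Matrix.mulVec_mulVec, ← Matrix.mulVec_mulVec]
    refine hf.ext_right fun u => ?_
    rw [← hfg, ← mulVec_inv_mulVec x u, hgR x hx, hfR x hx, hfg]
  refine ⟨σ c, fun u v => ?_⟩
  rw [hfg, hc, Matrix.smul_mulVec, Matrix.one_mulVec, hf.sesq.smul_right]

/-- Every automorphism of a finite field preserves every subfield. -/
theorem map_mem_subfield [Finite F] (σ : F ≃+* F) {F₁ : Subfield F} {x : F} (hx : x ∈ F₁) : σ x ∈ F₁ := by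
  classical
  haveI := Fintype.ofFinite F
  let S : Finset F := Finset.univ.filter (· ∈ F₁)
  let T : Finset F := Finset.univ.filter (fun y => y ^ Nat.card F₁ = y)
  haveI := Fintype.ofFinite F₁
  have hST : S ⊆ T := fun y hy => by
    simp only [S, Finset.mem_filter, Finset.mem_univ, true_and] at hy
    simp only [T, Finset.mem_filter, Finset.mem_univ, true_and]
    have := FiniteField.pow_card (⟨y, hy⟩ : F₁)
    rw [Nat.card_eq_fintype_card]
    exact congrArg Subtype.val this
  have h1 : 1 < Nat.card F₁ := Finite.one_lt_card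
  have hcard : T.card ≤ S.card := by
    have hS : S.card = Nat.card F₁ := by
      rw [Nat.card_eq_fintype_card]
      exact (Fintype.card_subtype _).symm
    have hp0 : (Polynomial.X ^ Nat.card F₁ - Polynomial.X : Polynomial F) ≠ 0 :=
      FiniteField.X_pow_card_sub_X_ne_zero F h1
    have hsub : T ⊆ (Polynomial.X ^ Nat.card F₁ - Polynomial.X : Polynomial F).roots.toFinset := fun y hy => by
      simp only [T, Finset.mem_filter, Finset.mem_univ, true_and] at hy
      rw [Multiset.mem_toFinset, Polynomial.mem_roots hp0]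
      simp only [Polynomial.IsRoot.def, Polynomial.eval_sub, Polynomial.eval_pow, Polynomial.eval_X, hy, sub_self]
    rw [hS]
    refine (Finset.card_le_card hsub).trans ((Multiset.toFinset_card_le _).trans ?_)
    exact (Polynomial.card_roots' _).trans (FiniteField.X_pow_card_sub_X_natDegree_eq F h1).le
  have heq := Finset.eq_of_subset_of_card_le hST hcard
  have hxS : x ∈ T := heq ▸ (by simp [S, hx] : x ∈ S)
  have h2 : σ x ∈ S := by
    rw [heq]
    simp only [T, Finset.mem_filter, Finset.mem_univ, true_and] at hxS ⊢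
    rw [← map_pow, hxS]
  simpa [S] using h2

/-- The normaliser of an absolutely irreducible group of isometries realisable over a proper subfield lies in
a subfield group carrying a multiple of the form. -/
theorem exists_form_subfield [Fintype F] [Nonempty ι] {σ : F ≃+* F} {ε : F}
    {f : (ι → F) → (ι → F) → F} (hf : IsReflexive σ ε f) {F₀ : Subfield F} (h0 : F₀ ≠ ⊤)
    {H R : Subgroup (GL ι F)} (hn : Normalizes H R)
    (hR : Cfsg.Geo.ActsAbsolutelyIrreducibly (Cfsg.Geo.matrixSet R))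
    (hfR : Cfsg.Geo.FixesForm (Cfsg.Geo.matrixSet R) f)
    (hreal : Cfsg.Geo.RealisableOver F₀ (Cfsg.Geo.matrixSet R)) :
    ∃ (F₁ : Subfield F) (r : ℕ) (P : GL ι F) (ζ : F), r.Prime ∧ Fintype.card F = Nat.card F₁ ^ r ∧
      ζ ≠ 0 ∧ Cfsg.Geo.IsFormRationalStructure f F₁ ζ P ∧ H ≤ Cfsg.Geo.subfieldSubgroup F₁ P := by
  obtain ⟨F₁, r, hr, hle, hcard⟩ := exists_prime_index_subfield h0
  obtain ⟨B, hB⟩ := hreal
  have hB₁ : ∀ x ∈ R, ∀ i j, (mat B * mat x * mat B⁻¹) i j ∈ F₁ := fun x hx i j =>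
    hle (hB _ (mem_matrixSet hx) i j)
  let f' : (ι → F) → (ι → F) → F := fun u v => f (mat B⁻¹ *ᵥ u) (mat B⁻¹ *ᵥ v)
  have hf' : IsReflexive σ ε f' :=
    { sesq :=
        { add_left := fun x y v => by simp [f', Matrix.mulVec_add, hf.sesq.add_left]
          smul_left := fun c x v => by simp [f', Matrix.mulVec_smul, hf.sesq.smul_left]
          add_right := fun v x y => by simp [f', Matrix.mulVec_add, hf.sesq.add_right]
          smul_right := fun c v x => by simp [f', Matrix.mulVec_smul, hf.sesq.smul_right] }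
      invol := hf.invol
      refl := fun u v => hf.refl _ _
      nondegenerate := fun v hv => by
        obtain ⟨⟨x, hx⟩, ⟨y, hy⟩⟩ := hf.nondegenerate (mat B⁻¹ *ᵥ v) (fun h => hv (by
          have := congrArg (fun z => mat B *ᵥ z) h
          simpa [mulVec_inv_mulVec] using this))
        refine ⟨⟨mat B *ᵥ x, ?_⟩, ⟨mat B *ᵥ y, ?_⟩⟩ <;> simpa only [f', inv_mulVec_mulVec] }
  set G' := Cfsg.Geo.gramMatrix f' with hG'
  have hGu : IsUnit G' := gram_isUnit hf'.sesq hf'.nondegenerate
  obtain ⟨a, b, hab⟩ : ∃ a b, G' a b ≠ 0 := by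
    by_contra hall
    push Not at hall
    exact hGu.ne_zero (Matrix.ext hall)
  obtain ⟨L, hL, -⟩ := Submodule.exists_dual_map_eq_bot_of_notMem
    (R := F₁) (p := (⊥ : Submodule F₁ F)) (x := G' a b) (by simpa using hab) inferInstance
  have e1 : ∀ c : F, c ∈ F₁ → ∀ d : F, (L (c * d) : F) = c * (L d : F) := fun c hc d => by
    have : L ((⟨c, hc⟩ : F₁) • d) = (⟨c, hc⟩ : F₁) * L d := L.map_smul _ d
    exact congrArg Subtype.val this
  let X : Matrix ι ι F := fun i j => (L (G' i j) : F)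
  let g' : (ι → F) → (ι → F) → F := fun u v => u ⬝ᵥ (X *ᵥ fun i => σ (v i))
  let g : (ι → F) → (ι → F) → F := fun u v => g' (mat B *ᵥ u) (mat B *ᵥ v)
  have hgs : IsSesq σ g :=
    { add_left := fun x y v => by simp [g, g', Matrix.mulVec_add]
      smul_left := fun c x v => by simp [g, g', Matrix.mulVec_smul]
      add_right := fun v x y => by
        simp only [g, g']
        rw [show (fun i => σ ((mat B *ᵥ (x + y)) i)) =
            (fun i => σ ((mat B *ᵥ x) i)) + fun i => σ ((mat B *ᵥ y) i) from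
          funext fun i => by simp [Matrix.mulVec_add]]
        rw [Matrix.mulVec_add, dotProduct_add]
      smul_right := fun c v x => by
        simp only [g, g']
        rw [show (fun i => σ ((mat B *ᵥ (c • x)) i)) = σ c • fun i => σ ((mat B *ᵥ x) i) from
          funext fun i => by simp [Matrix.mulVec_smul], Matrix.mulVec_smul, dotProduct_smul, smul_eq_mul] }
  have hgR : Cfsg.Geo.FixesForm (Cfsg.Geo.matrixSet R) g := forall_matrixSet.2 fun x hx u v => by
    set A := mat B * mat x * mat B⁻¹ with hA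
    have hAF : ∀ i j, A i j ∈ F₁ := hB₁ x hx
    have hfA : ∀ u v, f' (A *ᵥ u) (A *ᵥ v) = 1 * f' u v := fun u v => by
      simp only [f', hA, one_mul, ← Matrix.mulVec_mulVec, inv_mulVec_mulVec]
      exact forall_matrixSet.1 hfR x hx _ _
    have hGA := hf'.sesq.gram_of_eq hfA
    rw [one_smul, ← hG'] at hGA
    have hXA : Aᵀ * X * A.map σ = X := by
      ext i j
      have h := congrArg (fun M : Matrix ι ι F => (L (M i j) : F)) hGA
      simp only [Matrix.mul_apply, Matrix.transpose_apply, Matrix.map_apply, Finset.sum_mul, map_sum,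
        AddSubmonoidClass.coe_finsetSum] at h ⊢
      refine (Finset.sum_congr rfl fun k _ => Finset.sum_congr rfl fun l _ => ?_).trans h
      rw [show A l i * G' l k * σ (A k j) = (A l i * σ (A k j)) * G' l k by ring,
        e1 _ (F₁.mul_mem (hAF l i) (map_mem_subfield σ (hAF k j)))]
      simp only [X]
      ring
    have hBx : ∀ z, mat B *ᵥ (mat x *ᵥ z) = A *ᵥ (mat B *ᵥ z) := fun z => by
      simp only [hA, ← Matrix.mulVec_mulVec, inv_mulVec_mulVec]
    show g' _ _ = g' _ _
    rw [hBx, hBx]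
    show (A *ᵥ (mat B *ᵥ u)) ⬝ᵥ (X *ᵥ fun i => σ ((A *ᵥ (mat B *ᵥ v)) i)) = _
    rw [show (fun i => σ ((A *ᵥ (mat B *ᵥ v)) i)) = A.map σ *ᵥ fun i => σ ((mat B *ᵥ v) i) from
      funext fun i => by simp [Matrix.mulVec, dotProduct, map_sum, map_mul]]
    conv_rhs => simp only [g']; rw [← hXA, ← Matrix.mulVec_mulVec, ← Matrix.mulVec_mulVec,
      Matrix.dotProduct_mulVec (mat B *ᵥ u) Aᵀ, Matrix.vecMul_transpose]
  obtain ⟨c, hc⟩ := fixesForm_smul_eq hf hgs hR hfR hgR
  have hrel : ∀ i j, (L (G' i j) : F) = c * G' i j := by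
    intro i j
    have h1 := hc (mat B⁻¹ *ᵥ Pi.single i 1) (mat B⁻¹ *ᵥ Pi.single j 1)
    simp only [g, g', mulVec_inv_mulVec] at h1
    rw [show (fun k => σ ((Pi.single j (1 : F) : ι → F) k)) = Pi.single j 1 from
      funext fun k => by by_cases h : k = j <;> simp [h],
      Matrix.mulVec_single_one, single_dotProduct, one_mul] at h1
    exact h1
  have hc0 : c ≠ 0 := by
    rintro rfl
    exact hL (Subtype.ext (by simpa using hrel a b))
  refine ⟨F₁, r, B⁻¹, c, hr, hcard, hc0, fun u v hu hv => ?_, normalizer_le_subfield hR hB₁ hn⟩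
  show c * f' u v ∈ F₁
  rw [hf'.sesq.gram_eq, ← hG', dotProduct, Finset.mul_sum]
  refine F₁.sum_mem fun i _ => ?_
  rw [Matrix.mulVec, dotProduct, Finset.mul_sum, Finset.mul_sum]
  refine F₁.sum_mem fun j _ => ?_
  rw [show c * (u i * (G' i j * σ (v j))) = u i * (c * G' i j) * σ (v j) by ring, ← hrel]
  exact F₁.mul_mem (F₁.mul_mem (hu i) (L (G' i j)).2) (map_mem_subfield σ (hv j))

/-- An absolutely irreducible group fixing a bilinear and a unitary form is realisable over the fixed field of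
the involution. -/
theorem realisable_of_two_forms [Finite F] [Nonempty ι] {ε : F} {f : (ι → F) → (ι → F) → F}
    (hf : IsReflexive (RingEquiv.refl F) ε f) {σ : F ≃+* F} {h : (ι → F) → (ι → F) → F}
    (hh : Cfsg.Geo.IsUnitaryForm σ h) {R : Subgroup (GL ι F)}
    (hR : Cfsg.Geo.ActsAbsolutelyIrreducibly (Cfsg.Geo.matrixSet R))
    (hfR : Cfsg.Geo.FixesForm (Cfsg.Geo.matrixSet R) f)
    (hhR : Cfsg.Geo.FixesForm (Cfsg.Geo.matrixSet R) h) :
    ∃ F₀ : Subfield F, F₀ ≠ ⊤ ∧ Cfsg.Geo.RealisableOver F₀ (Cfsg.Geo.matrixSet R) := by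
  classical
  rw [Cfsg.Geo.FixesForm, forall_matrixSet] at hfR hhR
  obtain ⟨a, ha⟩ := MaxSub.exists_moved hh.ne_refl
  have hinv : ∀ x, σ (σ x) = x := hh.involutive
  have hS' := isReflexive_unitary hh
  set N := (Cfsg.Geo.gramMatrix f)⁻¹ * Cfsg.Geo.gramMatrix h with hN
  let S : (ι → F) → (ι → F) := fun v => N *ᵥ fun i => σ (v i)
  have hfh : ∀ u v, h u v = f u (S v) := fun u v => by
    rw [hS'.sesq.gram_eq, hf.sesq.gram_eq]
    show _ = u ⬝ᵥ (_ *ᵥ (N *ᵥ fun i => σ (v i)))
    rw [Matrix.mulVec_mulVec, hN, ← mul_assoc, Matrix.mul_nonsing_inv _ hf.gram_det_unit, one_mul]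
  have hSadd : ∀ u v, S (u + v) = S u + S v := fun u v => by
    simp only [S, Pi.add_apply, map_add]
    exact Matrix.mulVec_add _ _ _
  have hSsmul : ∀ (b : F) v, S (b • v) = σ b • S v := fun b v => by
    simp only [S, Pi.smul_apply, smul_eq_mul, map_mul]
    exact Matrix.mulVec_smul _ (σ b) _
  have hSx : ∀ x ∈ R, ∀ v, S (mat x *ᵥ v) = mat x *ᵥ S v := fun x hx v =>
    hf.ext_right fun u => by
      rw [← hfh, ← mulVec_inv_mulVec x u, hhR x hx, hfR x hx, hfh]
  have hSS : ∀ v, S (S v) = (N * N.map σ) *ᵥ v := fun v => by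
    have e : (fun i => σ ((N *ᵥ fun k => σ (v k)) i)) = N.map σ *ᵥ v := by
      funext i; simp [Matrix.mulVec, dotProduct, map_sum, map_mul, hinv]
    show N *ᵥ _ = _
    rw [e, Matrix.mulVec_mulVec]
  obtain ⟨c, hc⟩ := commute_of_absIrred hR (M := N * N.map σ) fun x hx => by
    apply Matrix.toLin'.injective
    refine LinearMap.ext fun v => ?_
    rw [Matrix.toLin'_apply, Matrix.toLin'_apply, ← Matrix.mulVec_mulVec, ← hSS, hSx x hx, hSx x hx, hSS,
      Matrix.mulVec_mulVec]
  have hSc : ∀ v, S (S v) = c • v := fun v => by rw [hSS, hc, Matrix.smul_mulVec, Matrix.one_mulVec]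
  have hS0 : ∀ v, S v = 0 → v = 0 := fun v hv => by
    by_contra hne
    obtain ⟨x, hx⟩ := (hh.nondegenerate v hne).1
    exact hx (by rw [hfh, hv, hf.zero_right])
  obtain ⟨v₀, hv₀⟩ := exists_ne (0 : ι → F)
  have hc0 : c ≠ 0 := fun h0 => hv₀ (hS0 _ (hS0 _ (by rw [hSc, h0, zero_smul])))
  have hσc : σ c = c := by
    have h1 : S (c • v₀) = c • S v₀ := by rw [← hSc v₀]; exact hSc _
    rw [hSsmul] at h1
    have h2 : (σ c - c) • S v₀ = 0 := by rw [sub_smul, h1, sub_self]
    exact sub_eq_zero.1 ((smul_eq_zero.1 h2).resolve_right fun h3 => hv₀ (hS0 _ h3))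
  obtain ⟨μ, hμ⟩ := MaxSub.norm_surjective hh.ne_refl hinv (a := c⁻¹) (by rw [map_inv₀, hσc])
  let τ : (ι → F) → (ι → F) := fun v => μ • S v
  have hτadd : ∀ u v, τ (u + v) = τ u + τ v := fun u v => by simp only [τ, hSadd, smul_add]
  have hτsmul : ∀ (b : F) v, τ (b • v) = σ b • τ v := fun b v => by
    simp only [τ, hSsmul, smul_comm μ]
  have hττ : ∀ v, τ (τ v) = v := fun v => by
    simp only [τ, hSsmul, smul_smul, hSc]
    rw [← mul_assoc, hμ, inv_mul_cancel₀ hc0, one_smul]
  have hτx : ∀ x ∈ R, ∀ v, τ (mat x *ᵥ v) = mat x *ᵥ τ v := fun x hx v => by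
    simp only [τ, hSx x hx, Matrix.mulVec_smul]
  let Fx : Set (ι → F) := {v | τ v = v}
  have hspan : Submodule.span F Fx = ⊤ := by
    rw [eq_top_iff]
    rintro v -
    have h1 : v + τ v ∈ Submodule.span F Fx :=
      Submodule.subset_span (show τ (v + τ v) = v + τ v by rw [hτadd, hττ, add_comm])
    have h3 : a • v + σ a • τ v ∈ Submodule.span F Fx :=
      Submodule.subset_span (show τ (a • v + σ a • τ v) = a • v + σ a • τ v by
        rw [hτadd, hτsmul, hτsmul, hττ, hinv, add_comm])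
    have h4 : (a - σ a) • v ∈ Submodule.span F Fx := by
      have : (a - σ a) • v = (a • v + σ a • τ v) - σ a • (v + τ v) := by module
      rw [this]
      exact Submodule.sub_mem _ h3 (Submodule.smul_mem _ _ h1)
    exact ((Submodule.span F Fx).smul_mem_iff (sub_ne_zero.2 (Ne.symm ha))).1 h4
  obtain ⟨b, hbS, hbspan, hbli⟩ := exists_linearIndependent F Fx
  rw [hspan] at hbspan
  let bas : Module.Basis b F (ι → F) := Module.Basis.mk hbli (by simp [hbspan])
  haveI : Finite b := Module.Finite.finite_basis bas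
  haveI : Fintype b := Fintype.ofFinite b
  let bI : Module.Basis ι F (ι → F) := bas.reindex (Fintype.equivOfCardEq (by
    rw [← Module.finrank_eq_card_basis bas, Module.finrank_fintype_fun_eq_card]))
  have hfixb : ∀ i, τ (bI i) = bI i := fun i => by
    simp only [bI, Module.Basis.reindex_apply, bas, Module.Basis.mk_apply]
    exact hbS (Subtype.mem _)
  let Bm : Matrix ι ι F := Matrix.of fun k i => bI i k
  have hBu : IsUnit Bm := Matrix.linearIndependent_cols_iff_isUnit.1 bI.linearIndependent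
  have hBmv : ∀ y, Bm *ᵥ y = ∑ i, y i • bI i := fun y => by
    funext k
    simp [Bm, Matrix.mulVec, dotProduct, Finset.sum_apply, mul_comm]
  let F₀ : Subfield F := σ.toRingHom.eqLocusField (RingHom.id F)
  refine ⟨F₀, fun htop => ha ?_, (hBu.unit)⁻¹, forall_matrixSet.2 fun x hx i j => ?_⟩
  · have : a ∈ F₀ := htop ▸ trivial
    exact this
  show σ _ = _
  rw [inv_inv]
  set y : ι → F := (mat hBu.unit⁻¹ * mat x * Bm) *ᵥ Pi.single j 1 with hy
  have hBj : Bm *ᵥ Pi.single j 1 = bI j := by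
    funext k
    simp [Bm]
  have hBy : Bm *ᵥ y = mat x *ᵥ bI j := by
    rw [hy, Matrix.mulVec_mulVec, ← mul_assoc, ← mul_assoc]
    rw [show Bm * mat hBu.unit⁻¹ = 1 from mat_mul_inv hBu.unit, one_mul, ← Matrix.mulVec_mulVec, hBj]
  have hτsum : ∀ z, τ (Bm *ᵥ z) = Bm *ᵥ fun i => σ (z i) := fun z => by
    rw [hBmv, hBmv]
    let T : (ι → F) →+ (ι → F) := AddMonoidHom.mk' τ hτadd
    show T _ = _
    rw [map_sum]
    exact Finset.sum_congr rfl fun i _ => by
      show τ _ = _
      rw [hτsmul, hfixb]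
  have hfix' : Bm *ᵥ (fun i => σ (y i)) = Bm *ᵥ y := by
    rw [← hτsum, hBy, hτx x hx, hfixb]
  have h1 := congrFun (Matrix.mulVec_injective_iff_isUnit.2 hBu hfix') i
  have hyi : y i = (mat hBu.unit⁻¹ * mat x * Bm) i j := by
    rw [hy, Matrix.mulVec_single_one]
    rfl
  rw [hyi] at h1
  exact h1

end CfsgLib.AschbacherForms
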