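import Cfsg.Agent.AschbacherForms.Factors

/-!
Bilinear forms from matrices, and the quadratic form of a tensor product of alternating forms in
characteristic two.
-/

set_option autoImplicit false
set_option linter.unusedSectionVars false
set_option linter.style.haveILetI false

namespace CfsgLib.AschbacherForms

open Matrix CfsgLib.Aschbacher
open scoped Kronecker

variable {ι : Type} [Fintype ι] [DecidableEq ι] {F : Type*} [Field F]

/-- The form with a given matrix. -/
def formOf {κ : Type} [Fintype κ] (σ : F → F) (S : Matrix κ κ F) (x y : κ → F) : F :=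
  x ⬝ᵥ (S *ᵥ fun i => σ (y i))

theorem isBilinearForm_formOf {κ : Type} [Fintype κ] [DecidableEq κ] (S : Matrix κ κ F) :
    Cfsg.Geo.IsBilinearForm (formOf (RingEquiv.refl F) S) := by
  refine ⟨fun x y v => ?_, fun c x v => ?_, fun v x y => ?_, fun c v x => ?_⟩ <;>
    simp only [formOf, RingEquiv.refl_apply, add_dotProduct, smul_dotProduct, smul_eq_mul, Pi.add_apply,
      Pi.smul_apply]
  · rw [show (fun i => x i + y i) = x + y from rfl, Matrix.mulVec_add, dotProduct_add]
  · rw [show (fun i => c * x i) = c • x from rfl, Matrix.mulVec_smul, dotProduct_smul, smul_eq_mul]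

theorem gramMatrix_formOf {κ : Type} [Fintype κ] [DecidableEq κ] (σ : F ≃+* F) (S : Matrix κ κ F) :
    Cfsg.Geo.gramMatrix (formOf σ S) = S := by
  ext a b
  show Pi.single a (1 : F) ⬝ᵥ (S *ᵥ fun i => σ ((Pi.single b (1 : F) : κ → F) i)) = _
  rw [show (fun i => σ ((Pi.single b (1 : F) : κ → F) i)) = Pi.single b 1 from
    funext fun i => by by_cases h : i = b <;> simp [h], Matrix.mulVec_single_one, single_dotProduct, one_mul]
  rfl

theorem nondegenerate_formOf {κ : Type} [Fintype κ] [DecidableEq κ] (σ : F ≃+* F) {S : Matrix κ κ F}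
    (hS : IsUnit S) : Cfsg.Geo.IsNondegenerateForm (formOf σ S) := by
  intro v hv
  have hv' : (fun i => σ (v i)) ≠ 0 := fun h => hv (funext fun i => by simpa using congrFun h i)
  constructor
  · by_contra hn
    push Not at hn
    refine hv' (Matrix.mulVec_injective_iff_isUnit.2 hS ?_)
    show S *ᵥ _ = S *ᵥ 0
    rw [Matrix.mulVec_zero]
    funext i
    simpa [formOf] using hn (Pi.single i 1)
  · by_contra hn
    push Not at hn
    refine hv (Matrix.vecMul_injective_iff_isUnit.2 hS ?_)
    show v ᵥ* S = 0 ᵥ* S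
    rw [Matrix.zero_vecMul]
    funext i
    have h1 := hn (Pi.single i 1)
    rw [formOf, show (fun j => σ ((Pi.single i (1 : F) : κ → F) j)) = Pi.single i 1 from
      funext fun j => by by_cases h : j = i <;> simp [h], Matrix.dotProduct_mulVec, dotProduct_single,
      mul_one] at h1
    exact h1

theorem formOf_symm {κ : Type} [Fintype κ] [DecidableEq κ] {S : Matrix κ κ F} {a : F} (h : Sᵀ = a • S)
    (x y : κ → F) : formOf (RingEquiv.refl F) S y x = a * formOf (RingEquiv.refl F) S x y := by
  show y ⬝ᵥ (S *ᵥ x) = a * (x ⬝ᵥ (S *ᵥ y))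
  rw [Matrix.dotProduct_mulVec, ← Matrix.mulVec_transpose, h, Matrix.smul_mulVec, smul_dotProduct,
    dotProduct_comm, smul_eq_mul]

theorem isSymmetricForm_formOf {κ : Type} [Fintype κ] [DecidableEq κ] {S : Matrix κ κ F} (hS : IsUnit S)
    (h : Sᵀ = S) : Cfsg.Geo.IsSymmetricForm (formOf (RingEquiv.refl F) S) :=
  ⟨isBilinearForm_formOf S, fun u v => by rw [formOf_symm (a := 1) (by rw [one_smul]; exact h) v u, one_mul],
    nondegenerate_formOf _ hS⟩

theorem isSymplecticForm_formOf {κ : Type} [Fintype κ] [DecidableEq κ] {S : Matrix κ κ F} (hS : IsUnit S)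
    (h : Sᵀ = -S) (hd : ∀ x : κ → F, formOf (RingEquiv.refl F) S x x = 0) :
    Cfsg.Geo.IsSymplecticForm (formOf (RingEquiv.refl F) S) :=
  ⟨isBilinearForm_formOf S,
    fun u v => by rw [formOf_symm (a := -1) (by rw [h, neg_one_smul]) v u, neg_one_mul],
    hd, nondegenerate_formOf _ hS⟩

theorem formOf_self_of_skew {κ : Type} [Fintype κ] [DecidableEq κ] {S : Matrix κ κ F} (h2 : (2 : F) ≠ 0)
    (h : Sᵀ = -S) (x : κ → F) : formOf (RingEquiv.refl F) S x x = 0 := by
  have h1 := formOf_symm (a := -1) (by rw [h, neg_one_smul] : Sᵀ = (-1 : F) • S) x x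
  exact (mul_eq_zero.1 (by linear_combination h1 :
    (2 : F) * formOf (RingEquiv.refl F) S x x = 0)).resolve_left h2

/-- In characteristic two a symmetric matrix with zero diagonal gives an alternating form. -/
theorem formOf_self_of_diag {κ : Type} [Fintype κ] [DecidableEq κ] {S : Matrix κ κ F} (h2 : (2 : F) = 0)
    (h : Sᵀ = S) (hd : ∀ i, S i i = 0) (x : κ → F) : formOf (RingEquiv.refl F) S x x = 0 := by
  let W : Submodule F (κ → F) :=
    { carrier := {x | formOf (RingEquiv.refl F) S x x = 0}
      add_mem' := fun {u v} hu hv => by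
        show formOf _ S (u + v) (u + v) = 0
        have hb := isBilinearForm_formOf (F := F) S
        rw [hb.add_left, hb.add_right, hb.add_right, hu, hv,
          formOf_symm (a := 1) (by rw [one_smul]; exact h) u v]
        linear_combination (formOf (RingEquiv.refl F) S u v) * h2
      zero_mem' := by simp [formOf]
      smul_mem' := fun c u hu => by
        show formOf _ S (c • u) (c • u) = 0
        have hb := isBilinearForm_formOf (F := F) S
        rw [hb.smul_left, hb.smul_right, hu, mul_zero, mul_zero] }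
  have hb : ∀ i, Pi.single i (1 : F) ∈ W := fun i => by
    show Pi.single i (1 : F) ⬝ᵥ (S *ᵥ Pi.single i 1) = 0
    simp [hd]
  show x ∈ W
  rw [pi_eq_sum_univ' x]
  exact W.sum_mem fun i _ => W.smul_mem _ (hb i)

variable {σ : F ≃+* F} {f : (ι → F) → (ι → F) → F} {k d : ℕ} {e : ι ≃ Fin k × Fin d}
  {P : GL ι F} {S : Matrix (Fin k) (Fin k) F} {T : Matrix (Fin d) (Fin d) F}

/-- The pure tensor of two vectors. -/
def pure (y : Fin k → F) (z : Fin d → F) : Fin k × Fin d → F := fun a => y a.1 * z a.2

theorem kronecker_mulVec_pure (A : Matrix (Fin k) (Fin k) F) (B : Matrix (Fin d) (Fin d) F)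
    (y : Fin k → F) (z : Fin d → F) : (A ⊗ₖ B) *ᵥ pure y z = pure (A *ᵥ y) (B *ᵥ z) := by
  funext a
  simp only [pure, Matrix.mulVec, dotProduct, Matrix.kroneckerMap_apply, Fintype.sum_prod_type,
    Finset.sum_mul_sum]
  exact Finset.sum_congr rfl fun i _ => Finset.sum_congr rfl fun j _ => by ring

theorem dotProduct_pure (y y' : Fin k → F) (z z' : Fin d → F) :
    pure y z ⬝ᵥ pure y' z' = (y ⬝ᵥ y') * (z ⬝ᵥ z') := by
  simp only [pure, dotProduct, Fintype.sum_prod_type, Finset.sum_mul_sum]
  exact Finset.sum_congr rfl fun i _ => Finset.sum_congr rfl fun j _ => by ring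

theorem formOfGram_pure (τ : F →* F) (y y' : Fin k → F) (z z' : Fin d → F) :
    Cfsg.Geo.formOfGram (⇑τ) (S ⊗ₖ T) (pure y z) (pure y' z') = formOf τ S y y' * formOf τ T z z' := by
  rw [formOfGram_eq, show (fun a => τ (pure y' z' a)) = pure (fun i => τ (y' i)) (fun j => τ (z' j)) from
    funext fun a => map_mul τ _ _, kronecker_mulVec_pure, dotProduct_pure]
  rfl

/-- In characteristic two an isometry group of a tensor product of alternating forms fixes a quadratic form. -/
theorem exists_tensor_quad (h2 : (2 : F) = 0) (hf : Cfsg.Geo.IsSymplecticForm f)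
    {H : Subgroup (GL ι F)} (hfix : Cfsg.Geo.FixesForm (Cfsg.Geo.matrixSet H) f)
    (hle : H ≤ Cfsg.Geo.tensorProductSubgroup k d e P)
    (hS : ∀ x, formOf (RingEquiv.refl F) S x x = 0) (hT : ∀ x, formOf (RingEquiv.refl F) T x x = 0)
    (hform : ∀ x y : Fin k × Fin d → F, f (mat P *ᵥ (x ∘ e)) (mat P *ᵥ (y ∘ e)) =
      Cfsg.Geo.formOfGram (RingEquiv.refl F) (S ⊗ₖ T) x y) :
    ∃ Q : (ι → F) → F, Cfsg.Geo.IsNondegenerateQuadraticForm Q ∧ (∀ u v, QuadraticMap.polar Q u v = f u v) ∧
      Cfsg.Geo.FixesQuadForm (Cfsg.Geo.matrixSet H) Q ∧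
      ∀ (y : Fin k → F) (z : Fin d → F), Q (mat P *ᵥ ((pure y z) ∘ e)) = 0 := by
  classical
  have hfr := isReflexive_symplectic hf
  have hfr' := isReflexive_coordForm hfr e P
  set G := Cfsg.Geo.gramMatrix (coordForm f e P) with hG
  have hsym : ∀ a b, G a b = G b a := fun a b => by
    show f _ _ = f _ _
    rw [hf.skew]
    linear_combination (-f (coords e P (Pi.single b 1)) (coords e P (Pi.single a 1))) * h2
  have hdiag : ∀ a, G a a = 0 := fun a => hf.alternating _
  let idx : Fin k × Fin d → Fin (k * d) := finProdFinEquiv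
  have hidx : Function.Injective idx := finProdFinEquiv.injective
  let U : Matrix (Fin k × Fin d) (Fin k × Fin d) F := fun a b => if idx a < idx b then G a b else 0
  have hU : U + Uᵀ = G := by
    ext a b
    show (if idx a < idx b then G a b else 0) + (if idx b < idx a then G b a else 0) = G a b
    rcases lt_trichotomy (idx a) (idx b) with h | h | h
    · rw [if_pos h, if_neg h.not_gt, add_zero]
    · rw [if_neg h.not_lt, if_neg h.symm.not_lt, add_zero, hidx h, hdiag]
    · rw [if_neg h.not_gt, if_pos h, zero_add, hsym]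
  let q : (Fin k × Fin d → F) → F := fun x => x ⬝ᵥ (U *ᵥ x)
  have hqpol : ∀ x y, q (x + y) = q x + q y + coordForm f e P x y := by
    intro x y
    have h1 : y ⬝ᵥ (U *ᵥ x) = x ⬝ᵥ (Uᵀ *ᵥ y) := by
      rw [Matrix.dotProduct_mulVec, ← Matrix.mulVec_transpose, dotProduct_comm]
    have h2' : coordForm f e P x y = x ⬝ᵥ (G *ᵥ y) := hfr'.sesq.gram_eq x y
    rw [h2', ← hU, Matrix.add_mulVec, dotProduct_add]
    simp only [q, Matrix.mulVec_add, add_dotProduct, dotProduct_add, h1]
    ring
  have hqsmul : ∀ (c : F) x, q (c • x) = c ^ 2 * q x := fun c x => by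
    simp only [q, Matrix.mulVec_smul, smul_dotProduct, dotProduct_smul, smul_eq_mul]; ring
  have hqdiag : ∀ i, q (Pi.single i 1) = 0 := fun i => by
    simp only [q]
    rw [Matrix.mulVec_single_one, single_dotProduct, one_mul]
    exact if_neg (lt_irrefl _)
  have hform' : ∀ x y, coordForm f e P x y = Cfsg.Geo.formOfGram (RingEquiv.refl F) (S ⊗ₖ T) x y := hform
  have hpuremul : ∀ (y y' : Fin k → F) (z z' : Fin d → F), coordForm f e P (pure y z) (pure y' z') =
      formOf (RingEquiv.refl F) S y y' * formOf (RingEquiv.refl F) T z z' := fun y y' z z' => by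
    rw [hform']
    exact formOfGram_pure (MonoidHom.id F) y y' z z'
  have hpure : ∀ y z, q (pure y z) = 0 := by
    intro y z
    let A : Submodule F (Fin k → F) :=
      { carrier := {y | ∀ z, q (pure y z) = 0}
        add_mem' := fun {u v} hu hv z => by
          rw [show pure (u + v) z = pure u z + pure v z from funext fun a => add_mul _ _ _, hqpol, hu, hv,
            hpuremul, hT, mul_zero, add_zero, add_zero]
        zero_mem' := fun z => by
          rw [show pure (0 : Fin k → F) z = (0 : Fin k × Fin d → F) from funext fun a => zero_mul _]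
          simp [q]
        smul_mem' := fun c u hu z => by
          rw [show pure (c • u) z = c • pure u z from funext fun a => mul_assoc _ _ _, hqsmul, hu, mul_zero] }
    suffices h : ∀ i, Pi.single i (1 : F) ∈ A by
      have : y ∈ A := by rw [pi_eq_sum_univ' y]; exact A.sum_mem fun i _ => A.smul_mem _ (h i)
      exact this z
    intro i w
    let B : Submodule F (Fin d → F) :=
      { carrier := {w | q (pure (Pi.single i 1) w) = 0}
        add_mem' := fun {u v} hu hv => by
          show q _ = 0
          rw [show pure (Pi.single i (1 : F)) (u + v) = pure (Pi.single i 1) u + pure (Pi.single i 1) v from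
              funext fun a => mul_add _ _ _, hqpol, hu, hv, hpuremul, hS, zero_mul, add_zero, add_zero]
        zero_mem' := by
          show q _ = 0
          rw [show pure (Pi.single i (1 : F)) (0 : Fin d → F) = 0 from funext fun a => mul_zero _]
          simp [q]
        smul_mem' := fun c u hu => by
          show q _ = 0
          rw [show pure (Pi.single i (1 : F)) (c • u) = c • pure (Pi.single i 1) u from
              funext fun a => mul_left_comm _ _ _, hqsmul, hu, mul_zero] }
    show w ∈ B
    rw [pi_eq_sum_univ' w]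
    refine B.sum_mem fun j _ => B.smul_mem _ ?_
    show q _ = 0
    rw [show pure (Pi.single i (1 : F)) (Pi.single j (1 : F)) = Pi.single (i, j) 1 from
      funext fun a => by
        obtain ⟨a₁, a₂⟩ := a
        by_cases h1 : a₁ = i <;> by_cases h3 : a₂ = j <;> simp [pure, h1, h3]]
    exact hqdiag _
  let Q : (ι → F) → F := fun v => q ((coords e P).symm v)
  have hQc : ∀ x, Q (coords e P x) = q x := fun x => by simp [Q]
  have hpolQ : ∀ u v, QuadraticMap.polar Q u v = f u v := fun u v => by
    simp only [QuadraticMap.polar, Q, map_add, hqpol, coordForm, LinearEquiv.apply_symm_apply]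
    ring
  refine ⟨Q, ⟨fun c v => by simp only [Q, map_smul, hqsmul], ?_, ?_⟩, hpolQ, ?_,
    fun y z => (hQc (pure y z)).trans (hpure y z)⟩
  · rw [show QuadraticMap.polar Q = f from funext fun u => funext fun v => hpolQ u v]
    exact hf.bilinear
  · rw [show QuadraticMap.polar Q = f from funext fun u => funext fun v => hpolQ u v]
    exact hf.nondegenerate
  refine forall_matrixSet.2 fun h hh v => ?_
  obtain ⟨a, b, hab⟩ := exists_of_mem_tensorProductSubgroup (hle hh)
  obtain ⟨x, rfl⟩ := (coords e P).surjective v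
  rw [hab, tensorEquiv_mulVec, hQc, hQc]
  set M := mat a ⊗ₖ mat b
  let D : Submodule F (Fin k × Fin d → F) :=
    { carrier := {x | q (M *ᵥ x) = q x}
      add_mem' := fun {u v} hu hv => by
        show q _ = q _
        rw [Matrix.mulVec_add, hqpol, hqpol, hu, hv]
        congr 1
        show f _ _ = f _ _
        rw [← tensorEquiv_mulVec, ← tensorEquiv_mulVec, ← hab]
        exact forall_matrixSet.1 hfix h hh _ _
      zero_mem' := by
        show q _ = q _
        rw [Matrix.mulVec_zero]
      smul_mem' := fun c u hu => by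
        show q _ = q _
        rw [Matrix.mulVec_smul, hqsmul, hqsmul, hu] }
  show x ∈ D
  rw [pi_eq_sum_univ' x]
  refine D.sum_mem fun i _ => D.smul_mem _ ?_
  show q _ = q _
  have hsing : (Pi.single i (1 : F) : Fin k × Fin d → F) = pure (Pi.single i.1 1) (Pi.single i.2 1) :=
    funext fun c => by
      obtain ⟨i₁, i₂⟩ := i
      obtain ⟨c₁, c₂⟩ := c
      by_cases h1 : c₁ = i₁ <;> by_cases h3 : c₂ = i₂ <;> simp [pure, h1, h3]
  have hcol : M *ᵥ Pi.single i 1 = pure (mat a *ᵥ Pi.single i.1 1) (mat b *ᵥ Pi.single i.2 1) := by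
    rw [hsing, kronecker_mulVec_pure]
  rw [hcol, hpure, hqdiag]

end CfsgLib.AschbacherForms
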