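import Cfsg.Agent.AschbacherForms.Degree
import Cfsg.Agent.AschbacherForms.TensorQuad

/-!
A symmetric factor of dimension two gives a skew element with scalar square permuted up to scalars.
-/

set_option autoImplicit false
set_option linter.unusedSectionVars false
set_option linter.style.haveILetI false

namespace CfsgLib.AschbacherForms

open Matrix CfsgLib.Aschbacher
open scoped Kronecker

variable {ι : Type} [Fintype ι] [DecidableEq ι] {F : Type*} [Field F]

/-- The alternating two-by-two matrix. -/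
def rot (F : Type*) [Field F] : Matrix (Fin 2) (Fin 2) F := !![0, 1; -1, 0]

theorem rot_mul_self : rot F * rot F = -1 := by
  ext i j; fin_cases i <;> fin_cases j <;> simp [rot, Matrix.mul_apply, Fin.sum_univ_two]

theorem rot_transpose : (rot F)ᵀ = -rot F := by
  ext i j; fin_cases i <;> fin_cases j <;> simp [rot]

theorem transpose_rot_mul (a : Matrix (Fin 2) (Fin 2) F) : aᵀ * rot F * a = a.det • rot F := by
  ext i j
  fin_cases i <;> fin_cases j <;>
    simp [rot, Matrix.mul_apply, Fin.sum_univ_two, Matrix.det_fin_two, Matrix.vecHead, Matrix.vecTail] <;>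
    ring

theorem rot_square {R : Matrix (Fin 2) (Fin 2) F} (hR : Rᵀ = R) :
    (R * rot F) * (R * rot F) = (-R.det) • (1 : Matrix (Fin 2) (Fin 2) F) := by
  have h01 : R 1 0 = R 0 1 := congrFun (congrFun hR 0) 1
  ext i j
  fin_cases i <;> fin_cases j <;>
    simp [rot, Matrix.mul_apply, Fin.sum_univ_two, Matrix.det_fin_two, Matrix.vecHead, Matrix.vecTail, h01] <;>
    ring

/-- The outcome of a symmetric two-dimensional factor. -/
theorem binary_factor_dichotomy [Fintype F] [Nonempty ι] {ε : F} {f : (ι → F) → (ι → F) → F}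
    (hf : IsReflexive (RingEquiv.refl F) ε f) (h2 : (2 : F) ≠ 0) {H : Subgroup (GL ι F)}
    (hfix : Cfsg.Geo.FixesForm (Cfsg.Geo.matrixSet H) f)
    (hirr : Cfsg.Geo.ActsIrreducibly (Cfsg.Geo.matrixSet H)) {d : ℕ} {e : ι ≃ Fin 2 × Fin d} {P : GL ι F}
    {S : Matrix (Fin 2) (Fin 2) F} {T : Matrix (Fin d) (Fin d) F} (hS : IsUnit S) (hT : IsUnit T)
    (hSs : Sᵀ = S) (hle : H ≤ Cfsg.Geo.tensorProductSubgroup 2 d e P)
    (hform : ∀ x y : Fin 2 × Fin d → F, f (mat P *ᵥ (x ∘ e)) (mat P *ᵥ (y ∘ e)) =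
      Cfsg.Geo.formOfGram (RingEquiv.refl F) (S ⊗ₖ T) x y) :
    (∃ (m : ℕ) (D : Fin 2 → Submodule F (ι → F)), Cfsg.Geo.IsMDecomposition m D ∧
      2 * m = Fintype.card ι ∧ (∀ i, Cfsg.Geo.IsTotallySingularFor f (D i)) ∧
      H ≤ Cfsg.Geo.decompositionStabilizer D) ∨
    ∃ K : Subalgebra F (Matrix ι ι F), Cfsg.Geo.IsFieldSubalgebra 2 K ∧
      Cfsg.Geo.IsAdjointClosedFor f K ∧ ¬ Cfsg.Geo.IsSelfAdjointFor f K ∧
      H ≤ Cfsg.Geo.subalgebraNormalizer K ∧
      ∀ k ∈ K, ∃ a : Matrix (Fin 2) (Fin 2) F, k = tensorEquiv e P (a ⊗ₖ 1) := by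
  haveI : Nonempty (Fin d) := ⟨(e (Classical.arbitrary ι)).2⟩
  have hd0 : S.det ≠ 0 := ((Matrix.isUnit_iff_isUnit_det _).1 hS).ne_zero
  obtain ⟨R, hSR, hRS, hRt, hRd⟩ : ∃ R : Matrix (Fin 2) (Fin 2) F,
      S * R = 1 ∧ R * S = 1 ∧ Rᵀ = R ∧ R.det ≠ 0 := by
    refine ⟨S⁻¹, Matrix.mul_nonsing_inv _ hd0.isUnit, Matrix.nonsing_inv_mul _ hd0.isUnit, ?_, ?_⟩
    · rw [Matrix.transpose_nonsing_inv, hSs]
    · exact fun h => zero_ne_one (α := F) (by
        rw [← Matrix.det_one (n := Fin 2), ← Matrix.mul_nonsing_inv _ hd0.isUnit, Matrix.det_mul, h, mul_zero])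
  set J := tensorEquiv e P ((R * rot F) ⊗ₖ (1 : Matrix (Fin d) (Fin d) F)) with hJdef
  have hJJ : J * J = (-R.det) • 1 := by
    rw [hJdef, ← map_mul, ← Matrix.mul_kronecker_mul, rot_square hRt, mul_one, Matrix.smul_kronecker,
      Matrix.one_kronecker_one, map_smul, map_one]
  have hJadj : adj (RingEquiv.refl F) f J = -J := by
    symm
    refine hf.adj_unique fun u w => ?_
    obtain ⟨u, rfl⟩ := (coords e P).surjective u
    obtain ⟨w, rfl⟩ := (coords e P).surjective w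
    rw [hJdef, ← map_neg, tensorEquiv_mulVec, tensorEquiv_mulVec]
    show coordForm f e P _ w = coordForm f e P u _
    have hG := (isReflexive_coordForm hf e P).sesq
    rw [hG.gram_eq, hG.gram_eq, gram_coordForm hform]
    show (((R * rot F) ⊗ₖ (1 : Matrix (Fin d) (Fin d) F)) *ᵥ u) ⬝ᵥ ((S ⊗ₖ T) *ᵥ w) =
      u ⬝ᵥ ((S ⊗ₖ T) *ᵥ ((-((R * rot F) ⊗ₖ (1 : Matrix (Fin d) (Fin d) F))) *ᵥ w))
    rw [Matrix.mulVec_mulVec, ← Matrix.vecMul_transpose, ← Matrix.dotProduct_mulVec, Matrix.mulVec_mulVec,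
      ← Matrix.kroneckerMap_transpose, mul_neg, ← Matrix.mul_kronecker_mul, ← Matrix.mul_kronecker_mul,
      Matrix.transpose_one, one_mul, mul_one, Matrix.transpose_mul, hRt, rot_transpose, mul_assoc, hRS,
      mul_one, ← mul_assoc S, hSR, one_mul, ← neg_one_smul F (rot F), Matrix.smul_kronecker, neg_one_smul]
  have hconj : ∀ h ∈ H, ∃ c : F, mat h * J * mat h⁻¹ = c • J := by
    intro h hh
    obtain ⟨a, b, hab⟩ := exists_of_mem_tensorProductSubgroup (hle hh)
    obtain ⟨μ, hμ, ha, -⟩ := factors_similitude hf hS.ne_zero hT.ne_zero hform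
      (fun u v => fixesForm_iff.1 hfix h hh u v) hab
    rw [show (mat a).map (RingEquiv.refl F) = mat a from Matrix.ext fun _ _ => rfl] at ha
    have hda : (mat a).det ≠ 0 := ((Matrix.isUnit_iff_isUnit_det _).1 a.isUnit).ne_zero
    refine ⟨μ / (mat a).det, ?_⟩
    have h1 : (mat a)ᵀ * (S * (mat a * (R * rot F))) =
        (mat a)ᵀ * (S * ((μ / (mat a).det) • ((R * rot F) * mat a))) := by
      calc (mat a)ᵀ * (S * (mat a * (R * rot F)))
          = ((mat a)ᵀ * S * mat a) * R * rot F := by simp only [mul_assoc]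
        _ = μ • rot F := by rw [ha, Matrix.smul_mul, hSR, Matrix.smul_mul, one_mul]
        _ = (μ / (mat a).det) • ((mat a)ᵀ * rot F * mat a) := by
            rw [transpose_rot_mul, smul_smul, div_mul_cancel₀ _ hda]
        _ = _ := by rw [Matrix.mul_smul, Matrix.mul_smul, ← mul_assoc S, ← mul_assoc S, hSR, one_mul, mul_assoc]
    have hat : IsUnit (mat a)ᵀ := (Matrix.isUnit_transpose (mat a)).2 a.isUnit
    have h4 : mat a * (R * rot F) = (μ / (mat a).det) • ((R * rot F) * mat a) :=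
      hS.mul_left_cancel (hat.mul_left_cancel h1)
    have h5 : mat h * J = (μ / (mat a).det) • (J * mat h) := by
      rw [hab, hJdef, ← map_mul, ← map_mul, ← Matrix.mul_kronecker_mul, ← Matrix.mul_kronecker_mul, h4,
        mul_one, one_mul, Matrix.smul_kronecker, map_smul]
    rw [h5, Matrix.smul_mul, mul_assoc, mat_mul_inv, mul_one]
  rcases skew_dichotomy hf h2 hirr (neg_ne_zero.2 hRd) hJJ hJadj hconj with h | h
  · exact Or.inl h
  · obtain ⟨K, hK, hcl, hnsa, hle', hform', -⟩ := h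
    refine Or.inr ⟨K, hK, hcl, hnsa, hle', fun k hk => ?_⟩
    obtain ⟨a, b, rfl⟩ := hform' k hk
    refine ⟨a • 1 + b • (R * rot F), ?_⟩
    rw [hJdef, Matrix.add_kronecker, Matrix.smul_kronecker, Matrix.smul_kronecker, map_add, map_smul,
      map_smul, Matrix.one_kronecker_one, map_one]

end CfsgLib.AschbacherForms
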