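import Cfsg.Agent.AschbacherForms.Adjoint
import Cfsg.Agent.Aschbacher.Tensor

/-!
A copy of a full matrix algebra closed under adjoints splits a form as a tensor product.
-/

set_option autoImplicit false
set_option linter.unusedSectionVars false
set_option linter.style.haveILetI false

namespace CfsgLib.AschbacherForms

open Matrix CfsgLib.Aschbacher
open scoped Kronecker

variable {ι : Type} [Fintype ι] [DecidableEq ι] {F : Type*} [Field F]

/-- Coordinates along a tensor decomposition. -/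
def coords {k d : ℕ} (e : ι ≃ Fin k × Fin d) (P : GL ι F) :
    (Fin k × Fin d → F) ≃ₗ[F] (ι → F) where
  toFun x := mat P *ᵥ (x ∘ e)
  map_add' x y := by rw [show (x + y) ∘ e = x ∘ e + y ∘ e from rfl, Matrix.mulVec_add]
  map_smul' c x := by
    rw [show (c • x) ∘ e = c • (x ∘ e) from rfl, Matrix.mulVec_smul]; rfl
  invFun v := (mat P⁻¹ *ᵥ v) ∘ e.symm
  left_inv x := by
    show (mat P⁻¹ *ᵥ (mat P *ᵥ (x ∘ e))) ∘ e.symm = x
    rw [inv_mulVec_mulVec]
    funext a; simp
  right_inv v := by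
    show mat P *ᵥ (((mat P⁻¹ *ᵥ v) ∘ e.symm) ∘ e) = v
    rw [show (((mat P⁻¹ *ᵥ v) ∘ e.symm) ∘ e) = mat P⁻¹ *ᵥ v from funext fun a => by simp,
      mulVec_inv_mulVec]

theorem coords_apply {k d : ℕ} (e : ι ≃ Fin k × Fin d) (P : GL ι F) (x : Fin k × Fin d → F) :
    coords e P x = mat P *ᵥ (x ∘ e) := rfl

theorem tensorEquiv_mulVec {k d : ℕ} (e : ι ≃ Fin k × Fin d) (P : GL ι F)
    (X : Matrix (Fin k × Fin d) (Fin k × Fin d) F) (x : Fin k × Fin d → F) :
    tensorEquiv e P X *ᵥ coords e P x = coords e P (X *ᵥ x) := by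
  rw [tensorEquiv_apply, coords_apply, coords_apply, ← Matrix.mulVec_mulVec, inv_mulVec_mulVec,
    ← Matrix.mulVec_mulVec, Matrix.submatrix_mulVec_equiv,
    show (x ∘ e) ∘ e.symm = x from funext fun a => by simp]

/-- The form in tensor coordinates. -/
def coordForm {k d : ℕ} (f : (ι → F) → (ι → F) → F) (e : ι ≃ Fin k × Fin d) (P : GL ι F)
    (x y : Fin k × Fin d → F) : F :=
  f (coords e P x) (coords e P y)

theorem isReflexive_coordForm {σ : F ≃+* F} {ε : F} {f : (ι → F) → (ι → F) → F}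
    (hf : IsReflexive σ ε f) {k d : ℕ} (e : ι ≃ Fin k × Fin d) (P : GL ι F) :
    IsReflexive σ ε (coordForm f e P) where
  sesq :=
    { add_left := fun x y v => by simp [coordForm, hf.sesq.add_left]
      smul_left := fun c x v => by simp [coordForm, hf.sesq.smul_left]
      add_right := fun v x y => by simp [coordForm, hf.sesq.add_right]
      smul_right := fun c v x => by simp [coordForm, hf.sesq.smul_right] }
  invol := hf.invol
  refl u v := hf.refl _ _
  nondegenerate v hv := by
    obtain ⟨⟨x, hx⟩, ⟨y, hy⟩⟩ := hf.nondegenerate (coords e P v) (by simpa using hv)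
    exact ⟨⟨(coords e P).symm x, by simpa [coordForm] using hx⟩,
      ⟨(coords e P).symm y, by simpa [coordForm] using hy⟩⟩

theorem formOfGram_eq {κ : Type} [Fintype κ] (τ : F → F) (G : Matrix κ κ F) (x y : κ → F) :
    Cfsg.Geo.formOfGram τ G x y = x ⬝ᵥ (G *ᵥ fun i => τ (y i)) := by
  rw [Cfsg.Geo.formOfGram, dotProduct]
  refine Finset.sum_congr rfl fun a _ => ?_
  rw [Matrix.mulVec, dotProduct, Finset.mul_sum]
  exact Finset.sum_congr rfl fun b _ => mul_assoc _ _ _

/-- A copy of a full matrix algebra closed under adjoints makes the Gram matrix a Kronecker product. -/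
theorem exists_gram_kronecker {σ : F ≃+* F} {ε : F} {f : (ι → F) → (ι → F) → F}
    (hf : IsReflexive σ ε f) {k d : ℕ} (hk : 0 < k) (hd : 0 < d)
    {φ : Matrix (Fin k) (Fin k) F →ₐ[F] Matrix ι ι F} (hφ : Function.Injective φ)
    {e : ι ≃ Fin k × Fin d} {P : GL ι F} (he : ∀ a, φ a = tensorEquiv e P (a ⊗ₖ 1))
    (hadj : ∀ a, adj σ f (φ a) ∈ φ.range) :
    ∃ (S : Matrix (Fin k) (Fin k) F) (T : Matrix (Fin d) (Fin d) F), IsUnit S ∧ IsUnit T ∧
      Cfsg.Geo.gramMatrix (coordForm f e P) = S ⊗ₖ T := by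
  replace hadj : ∀ a, ∃ b, φ b = adj σ f (φ a) := hadj
  choose star hstar using hadj
  have hstar_mul : ∀ a b, star (a * b) = star b * star a := fun a b => hφ (by
    show φ (star (a * b)) = φ (star b * star a)
    rw [hstar, map_mul, map_mul, hf.adj_mul, ← hstar, ← hstar])
  have hstar_add : ∀ a b, star (a + b) = star a + star b := fun a b => hφ (by
    show φ (star (a + b)) = φ (star a + star b)
    rw [hstar, map_add, map_add, hf.adj_add, ← hstar, ← hstar])
  have hstar_smul : ∀ (c : F) a, star (c • a) = σ c • star a := fun c a => hφ (by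
    show φ (star (c • a)) = φ (σ c • star a)
    rw [hstar, map_smul, map_smul, hf.adj_smul, ← hstar])
  have hstar_one : star 1 = 1 := hφ (by
    show φ (star 1) = φ 1
    rw [hstar, map_one, hf.adj_one])
  have hstar_star : ∀ a, star (star a) = a := fun a => hφ (by
    show φ (star (star a)) = φ a
    rw [hstar, hstar, hf.adj_adj])
  let ψ₀ : Matrix (Fin k) (Fin k) F →ₐ[F] Matrix (Fin k) (Fin k) F :=
    AlgHom.ofLinearMap
      { toFun := fun a => ((star a)ᵀ).map σ
        map_add' := fun a b => by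
          simp only [hstar_add, Matrix.transpose_add]
          exact Matrix.map_add σ (map_add σ) _ _
        map_smul' := fun c a => by
          simp only [hstar_smul, Matrix.transpose_smul, RingHom.id_apply]
          ext i j
          simp [hf.invol] }
      (by simp [hstar_one])
      (fun a b => by
        show ((star (a * b))ᵀ).map σ = ((star a)ᵀ).map σ * ((star b)ᵀ).map σ
        rw [hstar_mul, Matrix.transpose_mul, map_mat_mul])
  have hbij : Function.Bijective ψ₀ := Function.bijective_iff_has_inverse.2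
    ⟨fun b => star ((b.map σ)ᵀ), fun a => by
      show star ((((star a)ᵀ).map σ).map σ)ᵀ = a
      rw [show ((((star a)ᵀ).map σ).map σ)ᵀ = star a from Matrix.ext fun i j => by simp [hf.invol],
        hstar_star],
      fun b => by
      show ((star (star ((b.map σ)ᵀ)))ᵀ).map σ = b
      rw [hstar_star]
      ext i j
      simp [hf.invol]⟩
  obtain ⟨A, hA⟩ := exists_inner (AlgEquiv.ofBijective ψ₀ hbij)
  have hA' : ∀ a, (star a).map σ * (mat A⁻¹)ᵀ = (mat A⁻¹)ᵀ * aᵀ := by
    intro a
    have h1 : ((star a)ᵀ).map σ * mat A = mat A * a := hA a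
    have h2 : mat A⁻¹ * ((star a)ᵀ).map σ = a * mat A⁻¹ := by
      calc mat A⁻¹ * ((star a)ᵀ).map σ
          = mat A⁻¹ * ((((star a)ᵀ).map σ) * mat A) * mat A⁻¹ := by
            rw [mul_assoc, mul_assoc, mat_mul_inv, mul_one]
        _ = a * mat A⁻¹ := by rw [h1, ← mul_assoc, mat_inv_mul, one_mul]
    have h3 := congrArg Matrix.transpose h2
    rw [Matrix.transpose_mul, Matrix.transpose_mul, Matrix.transpose_map,
      Matrix.transpose_transpose] at h3
    exact h3
  have hf' := isReflexive_coordForm hf e P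
  set G := Cfsg.Geo.gramMatrix (coordForm f e P) with hG
  have hone : (1 : Matrix (Fin d) (Fin d) F).map σ = 1 := Matrix.map_one _ (map_zero σ) (map_one σ)
  have hGa : ∀ a : Matrix (Fin k) (Fin k) F,
      (aᵀ ⊗ₖ (1 : Matrix (Fin d) (Fin d) F)) * G =
        G * ((star a).map σ ⊗ₖ (1 : Matrix (Fin d) (Fin d) F)) := by
    intro a
    have hu : ∀ u v, coordForm f e P ((a ⊗ₖ (1 : Matrix (Fin d) (Fin d) F)) *ᵥ u) v =
        coordForm f e P u ((star a ⊗ₖ (1 : Matrix (Fin d) (Fin d) F)) *ᵥ v) := by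
      intro u v
      simp only [coordForm]
      rw [← tensorEquiv_mulVec, ← tensorEquiv_mulVec, ← he, ← he, hf.adj_spec]
      exact congrArg (fun M : Matrix ι ι F => f (coords e P u) (M *ᵥ coords e P v)) (hstar a).symm
    have h := hf'.adj_unique hu
    have h' := congrArg (fun M : Matrix (Fin k × Fin d) (Fin k × Fin d) F => G * M.map σ) h
    simp only [adj, Matrix.map_map] at h'
    rw [show (σ ∘ σ.symm : F → F) = id from funext fun x => σ.apply_symm_apply x, Matrix.map_id,
      ← mul_assoc, ← mul_assoc, ← hG, Matrix.mul_nonsing_inv _ (hG ▸ hf'.gram_det_unit), one_mul,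
      ← Matrix.kroneckerMap_transpose, Matrix.transpose_one] at h'
    rw [← h']
    congr 1
    ext ⟨i₁, i₂⟩ ⟨j₁, j₂⟩
    rw [Matrix.map_apply, Matrix.kroneckerMap_apply, Matrix.kroneckerMap_apply, map_mul, Matrix.map_apply]
    congr 1
    exact congrFun (congrFun hone i₂) j₂
  obtain ⟨T, hT⟩ := eq_one_kronecker_of_commute hk
    (X := G * ((mat A⁻¹)ᵀ ⊗ₖ (1 : Matrix (Fin d) (Fin d) F))) fun a => by
    have h := hGa aᵀ
    rw [Matrix.transpose_transpose] at h
    rw [← mul_assoc, h, mul_assoc, mul_assoc, ← Matrix.mul_kronecker_mul, ← Matrix.mul_kronecker_mul,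
      hA', Matrix.transpose_transpose]
  have hGT : G = (mat A)ᵀ ⊗ₖ T := by
    calc G = G * ((mat A⁻¹)ᵀ ⊗ₖ (1 : Matrix (Fin d) (Fin d) F)) *
          ((mat A)ᵀ ⊗ₖ (1 : Matrix (Fin d) (Fin d) F)) := by
          rw [mul_assoc, ← Matrix.mul_kronecker_mul, ← Matrix.transpose_mul, mat_mul_inv,
            Matrix.transpose_one, mul_one, Matrix.one_kronecker_one, mul_one]
      _ = (mat A)ᵀ ⊗ₖ T := by rw [hT, ← Matrix.mul_kronecker_mul, one_mul, mul_one]
  refine ⟨(mat A)ᵀ, T, (Matrix.isUnit_transpose _).2 A.isUnit, ?_, hGT⟩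
  have hdet := hf'.gram_det_unit
  rw [← hG, hGT, Matrix.det_kronecker, IsUnit.mul_iff] at hdet
  rw [Matrix.isUnit_iff_isUnit_det]
  exact (isUnit_pow_iff (by simpa using hk.ne')).1 hdet.2

/-- A form with the given Gram matrix in coordinates. -/
theorem coordForm_eq {σ : F ≃+* F} {ε : F} {f : (ι → F) → (ι → F) → F}
    (hf : IsReflexive σ ε f) {k d : ℕ} {e : ι ≃ Fin k × Fin d} {P : GL ι F}
    {G : Matrix (Fin k × Fin d) (Fin k × Fin d) F}
    (hG : Cfsg.Geo.gramMatrix (coordForm f e P) = G) (x y : Fin k × Fin d → F) :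
    f (mat P *ᵥ (x ∘ e)) (mat P *ᵥ (y ∘ e)) = Cfsg.Geo.formOfGram σ G x y := by
  rw [formOfGram_eq, ← hG]
  exact (isReflexive_coordForm hf e P).sesq.gram_eq x y

end CfsgLib.AschbacherForms
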