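import Cfsg.Agent.AschbacherForms.FixedField
import Cfsg.Agent.AschbacherForms.FormTensor
import Cfsg.Agent.Aschbacher.Reduce

/-!
Aschbacher's reduction for an irreducible group of isometries of a reflexive form: the geometric structures
it produces are compatible with the form.
-/

set_option autoImplicit false
set_option linter.unusedSectionVars false
set_option linter.style.haveILetI false

namespace CfsgLib.AschbacherForms

open Matrix CfsgLib.Aschbacher
open scoped Kronecker commutatorElement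

variable {ι : Type} [Fintype ι] [DecidableEq ι] {F : Type*} [Field F]

/-- The group stabilises an orthogonal decomposition into non-degenerate parts of equal dimension. -/
def HasOrthDecomposition (f : (ι → F) → (ι → F) → F) (H : Subgroup (GL ι F)) : Prop :=
  ∃ (t m : ℕ) (D : Fin t → Submodule F (ι → F)), Cfsg.Geo.IsNondegenerateMDecomposition f m D ∧
    t * m = Fintype.card ι ∧ H ≤ Cfsg.Geo.decompositionStabilizer D

/-- The group stabilises a pair of complementary totally singular subspaces, which are totally singular for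
every invariant quadratic form polarising to the form. -/
def HasSingularPair (f : (ι → F) → (ι → F) → F) (H : Subgroup (GL ι F)) : Prop :=
  ∃ (m : ℕ) (D : Fin 2 → Submodule F (ι → F)), Cfsg.Geo.IsMDecomposition m D ∧ 2 * m = Fintype.card ι ∧
    (∀ i, Cfsg.Geo.IsTotallySingularFor f (D i)) ∧ H ≤ Cfsg.Geo.decompositionStabilizer D ∧
    ∀ Q : (ι → F) → F, Cfsg.Geo.IsNondegenerateQuadraticForm Q → (∀ u v, QuadraticMap.polar Q u v = f u v) →
      Cfsg.Geo.FixesQuadForm (Cfsg.Geo.matrixSet H) Q → ∀ i, Cfsg.Geo.IsTotallySingularQuad Q (D i)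

/-- The group normalises an extension field of prime degree closed under adjoints. -/
def HasClosedField (σ : F ≃+* F) (f : (ι → F) → (ι → F) → F) (H : Subgroup (GL ι F)) : Prop :=
  ∃ (r : ℕ) (K : Subalgebra F (Matrix ι ι F)), r.Prime ∧ r ∣ Fintype.card ι ∧
    Cfsg.Geo.IsFieldSubalgebra r K ∧ H ≤ Cfsg.Geo.subalgebraNormalizer K ∧ ∀ k ∈ K, adj σ f k ∈ K

/-- The group stabilises a tensor decomposition of the form. -/
def HasFormTensor (σ : F ≃+* F) (f : (ι → F) → (ι → F) → F) (H : Subgroup (GL ι F)) : Prop :=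
  ∃ (k d : ℕ) (e : ι ≃ Fin k × Fin d) (P : GL ι F) (S : Matrix (Fin k) (Fin k) F)
    (T : Matrix (Fin d) (Fin d) F), 2 ≤ k ∧ 2 ≤ d ∧ k * d = Fintype.card ι ∧ IsUnit S ∧ IsUnit T ∧
    H ≤ Cfsg.Geo.tensorProductSubgroup k d e P ∧
    ∀ x y : Fin k × Fin d → F, f (mat P *ᵥ (x ∘ e)) (mat P *ᵥ (y ∘ e)) =
      Cfsg.Geo.formOfGram σ (S ⊗ₖ T) x y

variable {σ : F ≃+* F} {ε : F} {f : (ι → F) → (ι → F) → F}

theorem IsReflexive.adj_pow (hf : IsReflexive σ ε f) (M : Matrix ι ι F) (n : ℕ) :
    adj σ f (M ^ n) = adj σ f M ^ n := by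
  induction n with
  | zero => rw [pow_zero, pow_zero, hf.adj_one]
  | succ n ih => rw [pow_succ, hf.adj_mul, ih, ← pow_succ']

/-- A family of self-adjoint idempotents gives an orthogonal decomposition into as many parts. -/
theorem exists_orthDecomposition_card (hf : IsReflexive σ ε f) {H : Subgroup (GL ι F)}
    {E : Finset (Matrix ι ι F)} (hE : IsFamily H E)
    (hirr : Cfsg.Geo.ActsIrreducibly (Cfsg.Geo.matrixSet H)) (h2 : 2 ≤ E.card)
    (hadj : ∀ e ∈ E, adj σ f e = e) :
    ∃ (m : ℕ) (D : Fin E.card → Submodule F (ι → F)), Cfsg.Geo.IsNondegenerateMDecomposition f m D ∧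
      E.card * m = Fintype.card ι ∧ H ≤ Cfsg.Geo.decompositionStabilizer D := by
  obtain ⟨en, m, hD, hm, hle⟩ := hE.exists_decomposition hirr h2
  refine ⟨m, _, ⟨hD, fun i w hw hw0 => ?_, fun i j hij u hu v hv => ?_⟩, hm, hle⟩
  · have he := hE.idem _ (en i).2
    rw [mem_imOf_iff he] at hw
    obtain ⟨⟨x, hx⟩, ⟨y, hy⟩⟩ := hf.nondegenerate w hw0
    refine ⟨⟨(en i).1 *ᵥ x, mulVec_mem_imOf _ _, ?_⟩, ⟨(en i).1 *ᵥ y, mulVec_mem_imOf _ _, ?_⟩⟩
    · rwa [hf.adj_spec, hadj _ (en i).2, hw]
    · have e1 : f ((en i).1 *ᵥ w) y = f w ((en i).1 *ᵥ y) := by rw [hf.adj_spec, hadj _ (en i).2]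
      rw [hw] at e1
      rwa [← e1]
  · rw [mem_imOf_iff (hE.idem _ (en i).2)] at hu
    rw [mem_imOf_iff (hE.idem _ (en j).2)] at hv
    rw [← hu, ← hv, hf.adj_spec, hadj _ (en i).2, Matrix.mulVec_mulVec,
      hE.orth _ (en i).2 _ (en j).2 (fun h => hij (en.injective (Subtype.ext h))), Matrix.zero_mulVec,
      hf.zero_right]

/-- A family of self-adjoint idempotents gives an orthogonal decomposition. -/
theorem orthDecomposition_of_family (hf : IsReflexive σ ε f) {H : Subgroup (GL ι F)}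
    {E : Finset (Matrix ι ι F)} (hE : IsFamily H E)
    (hirr : Cfsg.Geo.ActsIrreducibly (Cfsg.Geo.matrixSet H)) (h2 : 2 ≤ E.card)
    (hadj : ∀ e ∈ E, adj σ f e = e) : HasOrthDecomposition f H :=
  ⟨E.card, exists_orthDecomposition_card hf hE hirr h2 hadj⟩

theorem fixesForm_iff {H : Subgroup (GL ι F)} :
    Cfsg.Geo.FixesForm (Cfsg.Geo.matrixSet H) f ↔
      ∀ h ∈ H, ∀ u v, f (mat h *ᵥ u) (mat h *ᵥ v) = f u v :=
  forall_matrixSet

/-- The two parts exchanged by adjoints are totally singular for invariant quadratic forms. -/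
theorem singular_of_commutant [Nonempty ι] (hf : IsReflexive σ ε f) {H N : Subgroup (GL ι F)}
    (hfix : Cfsg.Geo.FixesForm (Cfsg.Geo.matrixSet H) f) (hNH : N ≤ H) (hn : Normalizes H N)
    (hirr : Cfsg.Geo.ActsIrreducibly (Cfsg.Geo.matrixSet H)) (hNs : ¬ N ≤ Cfsg.Geo.scalars ι F)
    {e : Matrix ι ι F} (he : e ∈ commutant (Cfsg.Geo.matrixSet N)) (hee : e * e = e)
    (hts : Cfsg.Geo.IsTotallySingularFor f (imOf e))
    {Q : (ι → F) → F} (hQ : Cfsg.Geo.IsNondegenerateQuadraticForm Q)
    (hpol : ∀ u v, QuadraticMap.polar Q u v = f u v)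
    (hQH : Cfsg.Geo.FixesQuadForm (Cfsg.Geo.matrixSet H) Q) :
    Cfsg.Geo.IsTotallySingularQuad Q (imOf e) := by
  rw [fixesForm_iff] at hfix
  have hNf : ∀ x ∈ N, ∀ u v, f (mat x *ᵥ u) (mat x *ᵥ v) = f u v := fun x hx => hfix x (hNH hx)
  let Fx : Submodule F (ι → F) := ⨅ x : N, LinearMap.ker (Matrix.toLin' (mat x.1) - LinearMap.id)
  have hFx : ∀ v, v ∈ Fx ↔ ∀ x ∈ N, mat x *ᵥ v = v := by
    intro v
    simp [Fx, Submodule.mem_iInf, sub_eq_zero]
  have hFx0 : Fx = ⊥ := by
    refine ((actsIrreducibly_iff.1 hirr) Fx fun h hh => ?_).resolve_right fun htop => hNs fun x hx => ?_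
    · rw [mem_subspaceStabilizer_iff]
      intro w hw
      rw [hFx] at hw ⊢
      intro x hx
      rw [mulVec_conj, hw _ (hn.conj_inv hh hx)]
    · have h1 : x = 1 := by
        refine Units.ext (Matrix.toLin'.injective (LinearMap.ext fun v => ?_))
        rw [Matrix.toLin'_apply, Matrix.toLin'_apply, Units.val_one, Matrix.one_mulVec]
        exact (hFx v).1 (htop ▸ Submodule.mem_top) x hx
      exact h1 ▸ one_mem _
  let S : Submodule F (ι → F) := Submodule.span F {z | ∃ x ∈ N, ∃ v, z = mat x *ᵥ v - v}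
  have hS : S = ⊤ := by
    rw [← hf.perp_perp S]
    have h0 : hf.perp S = ⊥ := by
      rw [eq_bot_iff, ← hFx0]
      intro w hw
      rw [hFx]
      intro x hx
      refine hf.ext_left fun v => ?_
      have h1 := hw (mat x⁻¹ *ᵥ v - v) (Submodule.subset_span ⟨x⁻¹, inv_mem hx, v, rfl⟩)
      rw [hf.sub_right, sub_eq_zero] at h1
      rw [← h1, ← hNf x hx w (mat x⁻¹ *ᵥ v), mulVec_inv_mulVec]
    rw [h0, eq_top_iff]
    exact fun x _ w hw => by rw [(Submodule.mem_bot F).1 hw, hf.zero_right]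
  rw [mem_commutant, forall_matrixSet] at he
  let S₀ : Submodule F (ι → F) :=
    { carrier := {v | v ∈ imOf e ∧ Q v = 0}
      add_mem' := fun {a b} ha hb => ⟨add_mem ha.1 hb.1, by
        have h1 := hts a ha.1 b hb.1
        rw [← hpol] at h1
        simp only [QuadraticMap.polar, ha.2, hb.2, sub_zero] at h1
        exact h1⟩
      zero_mem' := ⟨zero_mem _, by simpa using hQ.smul 0 0⟩
      smul_mem' := fun c a ha => ⟨Submodule.smul_mem _ c ha.1, by rw [hQ.smul, ha.2, mul_zero]⟩ }
  intro v hv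
  rw [mem_imOf_iff hee] at hv
  have h1 : e *ᵥ v ∈ S.map (Matrix.toLin' e) := ⟨v, hS ▸ Submodule.mem_top, Matrix.toLin'_apply _ _⟩
  have h2 : S.map (Matrix.toLin' e) ≤ S₀ := by
    rw [Submodule.map_span, Submodule.span_le]
    rintro _ ⟨_, ⟨x, hx, v, rfl⟩, rfl⟩
    rw [Matrix.toLin'_apply]
    refine ⟨mulVec_mem_imOf _ _, ?_⟩
    rw [Matrix.mulVec_sub, Matrix.mulVec_mulVec, ← he x hx, ← Matrix.mulVec_mulVec]
    set w := e *ᵥ v
    have hxw : mat x *ᵥ w ∈ imOf e := by
      rw [Matrix.mulVec_mulVec, he x hx, ← Matrix.mulVec_mulVec]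
      exact mulVec_mem_imOf _ _
    have hneg : -w = (-1 : F) • w := (neg_one_smul F w).symm
    have h3 : QuadraticMap.polar Q (mat x *ᵥ w) (-w) = 0 := by
      rw [hpol]
      exact hts _ hxw _ (Submodule.neg_mem _ (mulVec_mem_imOf _ _))
    have h4 : Q (-w) = Q w := by rw [hneg, hQ.smul]; ring
    have h5 : QuadraticMap.polar Q w w = 0 := by
      rw [hpol]; exact hts _ (mulVec_mem_imOf _ _) _ (mulVec_mem_imOf _ _)
    rw [quad_polar_self hQ] at h5
    simp only [QuadraticMap.polar, h4, ← sub_eq_add_neg] at h3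
    rw [forall_matrixSet.1 hQH x (hNH hx)] at h3
    linear_combination h3 + h5
  have h6 := (h2 h1).2
  rwa [hv] at h6

/-- A normalised non-scalar group of isometries is absolutely irreducible or gives a structure compatible
with the form. -/
theorem normal_star [Fintype F] [Nonempty ι] (hf : IsReflexive σ ε f) {H N : Subgroup (GL ι F)}
    (hfix : Cfsg.Geo.FixesForm (Cfsg.Geo.matrixSet H) f) (hNH : N ≤ H)
    (hirr : Cfsg.Geo.ActsIrreducibly (Cfsg.Geo.matrixSet H)) (hn : Normalizes H N)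
    (hNs : ¬ N ≤ Cfsg.Geo.scalars ι F) :
    HasOrthDecomposition f H ∨ HasSingularPair f H ∨ HasClosedField σ f H ∨ HasFormTensor σ f H ∨
      Cfsg.Geo.ActsAbsolutelyIrreducibly (Cfsg.Geo.matrixSet N) := by
  classical
  have hfixH := fixesForm_iff.1 hfix
  have hfixN : Cfsg.Geo.FixesForm (Cfsg.Geo.matrixSet N) f :=
    fixesForm_iff.2 fun h hh => hfixH h (hNH hh)
  set C := commutant (Cfsg.Geo.matrixSet N)
  have hCn : H ≤ Cfsg.Geo.subalgebraNormalizer C := commutant_normalized hn
  let Z : Subalgebra F (Matrix ι ι F) := C ⊓ Subalgebra.centralizer F (C : Set (Matrix ι ι F))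
  have hZmem : ∀ {x}, x ∈ Z ↔ x ∈ C ∧ ∀ y ∈ C, y * x = x * y := fun {x} =>
    ⟨fun h => ⟨h.1, (Subalgebra.mem_centralizer_iff F).1 h.2⟩,
      fun h => ⟨h.1, (Subalgebra.mem_centralizer_iff F).2 h.2⟩⟩
  have hc : ∀ x ∈ Z, ∀ y ∈ Z, x * y = y * x := fun x hx y hy => (hZmem.1 hy).2 x (hZmem.1 hx).1
  have hZn : H ≤ Cfsg.Geo.subalgebraNormalizer Z := by
    intro h hh
    refine mem_subalgebraNormalizer_of fun x hx => hZmem.2 ⟨(hCn hh x).1 (hZmem.1 hx).1, fun y hy => ?_⟩
    have hy' : mat h⁻¹ * y * mat h ∈ C := (hCn hh _).2 (by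
      show mat h * (mat h⁻¹ * y * mat h) * mat h⁻¹ ∈ C
      simp [mat, mul_assoc, hy])
    have h1 := congrArg (fun M => mat h * M * mat h⁻¹) ((hZmem.1 hx).2 _ hy')
    simpa [mat, mul_assoc] using h1
  have hCadj : ∀ x ∈ C, adj σ f x ∈ C := fun x hx => hf.adj_mem_commutant hfixN hx
  have hZadj : ∀ x ∈ Z, adj σ f x ∈ Z := by
    intro x hx
    refine hZmem.2 ⟨hCadj x (hZmem.1 hx).1, fun y hy => ?_⟩
    have h1 := congrArg (adj σ f) ((hZmem.1 hx).2 _ (hCadj y hy))
    rw [hf.adj_mul, hf.adj_mul, hf.adj_adj] at h1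
    exact h1.symm
  obtain ⟨E, hE, hEZ, hEmin, hEmax⟩ := exists_atoms hZn hc
  have hEadj : ∀ e ∈ E, adj σ f e ∈ E := by
    intro e he
    refine hEmax _ (hZadj _ (hEZ e he)) (by rw [← hf.adj_mul, hE.idem e he])
      (fun h0 => hE.ne_zero e he (hf.adj_injective (h0.trans hf.adj_zero.symm))) fun g hg hgg hge => ?_
    have h1 := congrArg (adj σ f) hge
    rw [hf.adj_mul, hf.adj_adj] at h1
    rcases hEmin e he (adj σ f g) (hZadj g hg) (by rw [← hf.adj_mul, hgg])
      (by rw [hc _ (hZadj g hg) _ (hEZ e he)]; exact h1) with h2 | h2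
    · left; rw [← hf.adj_adj g, h2, hf.adj_zero]
    · right; rw [← hf.adj_adj g, h2]
  rcases Nat.lt_or_ge E.card 2 with hcard | hcard
  · -- the centre is a field
    have hE1 : E = {1} := by
      have h0 : E.card ≠ 0 := fun h => by
        have h1 := hE.sum_eq
        rw [Finset.card_eq_zero.1 h, Finset.sum_empty] at h1
        exact zero_ne_one h1
      obtain ⟨a, ha⟩ := Finset.card_eq_one.1 (show E.card = 1 by omega)
      have h1 := hE.sum_eq
      rw [ha, Finset.sum_singleton] at h1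
      rw [ha, h1]
    have hinv : ∀ x ∈ Z, x ≠ 0 → ∃ y ∈ Z, x * y = 1 := by
      intro x hx hx0
      obtain ⟨y, hy, hyx⟩ := exists_regular hirr hZn hc hx
      refine ⟨y, hy, ?_⟩
      rw [hc x hx y hy]
      refine (hEmin 1 (by rw [hE1]; exact Finset.mem_singleton_self 1) _ (Z.mul_mem hy hx) ?_
        (mul_one _)).resolve_left fun h0 => hx0 ?_
      · calc y * x * (y * x) = y * (y * x * x) := by
              rw [mul_assoc y x, hc x hx (y * x) (Z.mul_mem hy hx)]
          _ = y * x := by rw [hyx]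
      · rw [← hyx, h0, zero_mul]
    by_cases hne : Module.finrank F Z ≠ 1
    · obtain ⟨r, K, hr, hK, hmem⟩ := exists_prime_subfield hc hinv hne
      refine Or.inr (Or.inr (Or.inl ⟨r, K, hr, fieldSubalgebra_finrank_dvd hK, hK, fun h hh =>
        mem_subalgebraNormalizer_of fun x hx => ?_, fun x hx => ?_⟩))
      · obtain ⟨hxZ, hxr⟩ := (hmem x).1 hx
        refine (hmem _).2 ⟨(hZn hh x).1 hxZ, ?_⟩
        have hpow : ∀ j : ℕ, (mat h * x * mat h⁻¹) ^ j = mat h * x ^ j * mat h⁻¹ := by
          intro j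
          induction j with
          | zero => simp [mat]
          | succ j ih =>
            rw [pow_succ, ih, pow_succ]
            simp [mat, mul_assoc]
        rw [hpow, hxr]
      · obtain ⟨hxZ, hxr⟩ := (hmem x).1 hx
        exact (hmem _).2 ⟨hZadj x hxZ, by rw [← hf.adj_pow, hxr]⟩
    · push Not at hne
      have hscal : ∀ x ∈ Z, ∃ c : F, x = c • (1 : Matrix ι ι F) := by
        intro x hx
        obtain ⟨c, hc'⟩ := (finrank_eq_one_iff_of_nonzero' (1 : Z)
          (fun h => one_ne_zero (congrArg Subtype.val h))).1 hne ⟨x, hx⟩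
        exact ⟨c, (congrArg Subtype.val hc').symm⟩
      have hcomm : ∀ (c : Matrix ι ι F), ∀ z ∈ C, (∀ y ∈ C, z * y = y * z) → c * z = z * c := by
        intro c z hz hzc
        obtain ⟨a, rfl⟩ := hscal z (hZmem.2 ⟨hz, fun y hy => (hzc y hy).symm⟩)
        rw [Matrix.mul_smul, mul_one, Matrix.smul_mul, one_mul]
      rcases algebra_reduction hirr hCn with
        ⟨t, m, D, hD, htm, -, hinvD⟩ | ⟨r, K, hr, -, hKC, hK, -, hKc⟩ | ⟨k, φ, hk, hφ, hφC⟩
      · exfalso
        obtain ⟨v, hv, hv0⟩ := (Submodule.ne_bot_iff (D ⟨0, by have := hD.two_le; omega⟩)).1 (fun h => by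
          have h1 := hD.finrank_eq ⟨0, by have := hD.two_le; omega⟩
          rw [h, finrank_bot] at h1
          exact hD.pos.ne h1)
        have htop : D ⟨0, by have := hD.two_le; omega⟩ = ⊤ := by
          rw [eq_top_iff]
          intro w _
          obtain ⟨L, hL⟩ : ∃ L : (ι → F) →ₗ[F] (ι → F), L v = w := by
            obtain ⟨i, hi⟩ := Function.ne_iff.1 hv0
            exact ⟨LinearMap.smulRight ((v i)⁻¹ • LinearMap.proj i) w, by simp [inv_mul_cancel₀ hi]⟩
          have h1 := hinvD (LinearMap.toMatrix' L) (hcomm _) _ v hv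
          rwa [← Matrix.toLin'_apply, Matrix.toLin'_toMatrix', hL] at h1
        have h2 := hD.finrank_eq ⟨0, by have := hD.two_le; omega⟩
        rw [htop, finrank_top, Module.finrank_fintype_fun_eq_card] at h2
        have h4 := hD.two_le
        nlinarith [hD.pos]
      · exfalso
        refine isFieldSubalgebra_ne_bot hr hK fun k hk => ?_
        obtain ⟨c, rfl⟩ := hscal k (hZmem.2 ⟨hKC hk, fun y hy => (hKc k hk y hy).symm⟩)
        exact Algebra.mem_bot.2 ⟨c, Algebra.algebraMap_eq_smul_one c⟩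
      · obtain ⟨d, e, P, he⟩ := exists_tensor hk (φ := φ)
        have hkd : k * d = Fintype.card ι := by
          rw [Fintype.card_congr e, Fintype.card_prod, Fintype.card_fin, Fintype.card_fin]
        rcases Nat.lt_or_ge k 2 with hk1 | hk2
        · obtain rfl : k = 1 := by omega
          have hsc : ∀ M ∈ C, ∃ c : F, M = c • (1 : Matrix ι ι F) := by
            intro M hM
            rw [← hφC] at hM
            obtain ⟨a, rfl⟩ := hM
            refine ⟨a 0 0, ?_⟩
            show φ a = _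
            rw [← map_one φ, ← map_smul]
            congr 1
            ext i j
            simp [Fin.fin_one_eq_zero i, Fin.fin_one_eq_zero j]
          exact Or.inr (Or.inr (Or.inr (Or.inr ⟨irreducible_of_commutant_scalar hirr hn hsc,
            fun M hM => hsc M (mem_commutant.2 fun s hs => (hM s hs).symm)⟩)))
        rcases Nat.lt_or_ge d 2 with hd1 | hd2
        · exfalso
          obtain rfl : d = 1 := by
            have h0 : 0 < Fintype.card ι := Fintype.card_pos
            rw [← hkd] at h0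
            have := Nat.pos_of_mul_pos_left h0
            omega
          apply hNs
          intro x hx
          obtain ⟨b, hb⟩ := eq_tensorEquiv_of_commute hk (e := e) (P := P) (M := mat x) fun a => by
            have h1 : φ a ∈ C := hφC ▸ φ.mem_range_self a
            rw [← he]
            exact ((mem_commutant.1 h1) _ (mem_matrixSet hx)).symm
          have hb1 : b = b 0 0 • (1 : Matrix (Fin 1) (Fin 1) F) := by
            ext i j; simp [Fin.fin_one_eq_zero i, Fin.fin_one_eq_zero j]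
          rw [hb1, Matrix.kronecker_smul, Matrix.one_kronecker_one, map_smul, map_one] at hb
          have h0 : b 0 0 ≠ 0 := fun h0 =>
            x.ne_zero (by rw [show (x : Matrix ι ι F) = _ from hb, h0, zero_smul])
          exact (Cfsg.Geo.mem_scalars_iff x).2 ⟨Units.mk0 _ h0, hb⟩
        have hadjφ : ∀ a, adj σ f (φ a) ∈ φ.range := fun a => by
          rw [hφC]; exact hCadj _ (hφC ▸ φ.mem_range_self a)
        obtain ⟨S, T, hS, hT, hG⟩ := exists_gram_kronecker hf hk (by omega) hφ he hadjφ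
        refine Or.inr (Or.inr (Or.inr (Or.inl ⟨k, d, e, P, S, T, hk2, hd2, hkd, hS, hT,
          fun h hh => normalizer_le_tensorProductSubgroup hk hφ he ?_, coordForm_eq hf hG⟩)))
        rw [hφC]
        exact hCn hh
  · by_cases hsome : ∃ e ∈ E, adj σ f e = e
    · obtain ⟨e, he, hee⟩ := hsome
      refine Or.inl (orthDecomposition_of_family hf hE hirr hcard fun e' he' => ?_)
      obtain ⟨h, hh, rfl⟩ := hE.transitive hirr he he'
      rw [hf.adj_conj (hfixH h hh), hee]
    push Not at hsome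
    by_cases hpair : E.card = 2
    · obtain ⟨en, m, hD, hm, hle⟩ := hE.exists_decomposition hirr hcard
      have hts : ∀ i, Cfsg.Geo.IsTotallySingularFor f (imOf (en i).1) := by
        intro i u hu v hv
        rw [mem_imOf_iff (hE.idem _ (en i).2)] at hu hv
        rw [← hu, ← hv, hf.adj_spec, Matrix.mulVec_mulVec,
          hE.orth _ (hEadj _ (en i).2) _ (en i).2 (hsome _ (en i).2), Matrix.zero_mulVec, hf.zero_right]
      have hDf : ∀ (Q : (ι → F) → F), Cfsg.Geo.IsNondegenerateQuadraticForm Q →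
          (∀ u v, QuadraticMap.polar Q u v = f u v) →
          Cfsg.Geo.FixesQuadForm (Cfsg.Geo.matrixSet H) Q →
          ∀ i, Cfsg.Geo.IsTotallySingularQuad Q (imOf (en i).1) :=
        fun Q hQ hpol hQH i => singular_of_commutant hf hfix hNH hn hirr hNs
          (hZmem.1 (hEZ _ (en i).2)).1 (hE.idem _ (en i).2) (hts i) hQ hpol hQH
      revert en
      rw [hpair] at hm ⊢
      intro en hD hle hts hDf
      exact Or.inr (Or.inl ⟨m, _, hD, hm, hts, hle, hDf⟩)
    -- pairs
    have horth' : ∀ a ∈ E, a * adj σ f a = 0 ∧ adj σ f a * a = 0 := fun a ha =>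
      ⟨hE.orth a ha _ (hEadj a ha) (hsome a ha).symm, hE.orth _ (hEadj a ha) a ha (hsome a ha)⟩
    let pr : Matrix ι ι F → Matrix ι ι F := fun a => a + adj σ f a
    have hprpr : ∀ a ∈ E, ∀ b ∈ E, (b = a ∨ b = adj σ f a) → pr b = pr a := by
      rintro a - b - (rfl | rfl)
      · rfl
      · show adj σ f a + adj σ f (adj σ f a) = a + adj σ f a
        rw [hf.adj_adj, add_comm]
    have hapr : ∀ a ∈ E, a * pr a = a := fun a ha => by
      show a * (a + adj σ f a) = a
      rw [mul_add, hE.idem a ha, (horth' a ha).1, add_zero]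
    have hidem : ∀ a ∈ E, pr a * pr a = pr a := fun a ha => by
      show (a + adj σ f a) * (a + adj σ f a) = a + adj σ f a
      rw [add_mul, mul_add, mul_add, hE.idem a ha, (horth' a ha).1, (horth' a ha).2, ← hf.adj_mul,
        hE.idem a ha, add_zero, zero_add]
    have hprorth : ∀ a ∈ E, ∀ b ∈ E, pr a ≠ pr b → pr a * pr b = 0 := by
      intro a ha b hb hne
      have h1 : a ≠ b := fun h => hne (by rw [h])
      have h2 : a ≠ adj σ f b := fun h => hne (hprpr b hb a ha (Or.inr h))
      have h3 : adj σ f a ≠ b := fun h => hne (hprpr a ha b hb (Or.inr h.symm)).symm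
      have h4 : adj σ f a ≠ adj σ f b := fun h => h1 (hf.adj_injective h)
      show (a + adj σ f a) * (b + adj σ f b) = 0
      rw [add_mul, mul_add, mul_add, hE.orth a ha b hb h1, hE.orth a ha _ (hEadj b hb) h2,
        hE.orth _ (hEadj a ha) b hb h3, hE.orth _ (hEadj a ha) _ (hEadj b hb) h4]
      simp
    let E' := E.image pr
    have hE'mem : ∀ {x}, x ∈ E' ↔ ∃ a ∈ E, pr a = x := fun {x} => Finset.mem_image
    have hsum : ∑ x ∈ E', x = 1 := by
      set s := ∑ x ∈ E', x with hs
      have hpas : ∀ a ∈ E, a * s = a := by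
        intro a ha
        rw [hs, Finset.mul_sum, Finset.sum_eq_single (pr a), hapr a ha]
        · intro x hx hxa
          obtain ⟨b, hb, rfl⟩ := hE'mem.1 hx
          rw [← hapr a ha, mul_assoc, hprorth a ha b hb (Ne.symm hxa), mul_zero]
        · exact fun h => absurd (hE'mem.2 ⟨a, ha, rfl⟩) h
      have h1 : (∑ a ∈ E, a) * s = ∑ a ∈ E, a := by rw [Finset.sum_mul, Finset.sum_congr rfl hpas]
      rwa [hE.sum_eq, one_mul] at h1
    have hE' : IsFamily H E' := by
      refine ⟨fun x hx => ?_, fun x hx => ?_, fun x hx y hy hne => ?_, hsum, fun h hh x hx => ?_⟩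
      · obtain ⟨a, ha, rfl⟩ := hE'mem.1 hx; exact hidem a ha
      · obtain ⟨a, ha, rfl⟩ := hE'mem.1 hx
        intro h0
        have h1 := hapr a ha
        rw [h0, mul_zero] at h1
        exact hE.ne_zero a ha h1.symm
      · obtain ⟨a, ha, rfl⟩ := hE'mem.1 hx
        obtain ⟨b, hb, rfl⟩ := hE'mem.1 hy
        exact hprorth a ha b hb hne
      · obtain ⟨a, ha, rfl⟩ := hE'mem.1 hx
        refine hE'mem.2 ⟨_, hE.perm h hh a ha, ?_⟩
        show mat h * a * mat h⁻¹ + adj σ f (mat h * a * mat h⁻¹) = mat h * (a + adj σ f a) * mat h⁻¹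
        rw [hf.adj_conj (hfixH h hh), mul_add, add_mul]
    refine Or.inl (orthDecomposition_of_family hf hE' hirr ?_ fun x hx => ?_)
    · obtain ⟨a, ha⟩ := Finset.card_pos.1 (by omega : 0 < E.card)
      obtain ⟨b, hb, hbn⟩ : ∃ b ∈ E, b ≠ a ∧ b ≠ adj σ f a := by
        by_contra hno
        push Not at hno
        have hsub : E ⊆ {a, adj σ f a} := fun b hb => by
          by_cases h : b = a
          · simp [h]
          · simp [hno b hb h]
        have := (Finset.card_le_card hsub).trans Finset.card_le_two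
        omega
      refine Finset.one_lt_card.2 ⟨pr a, hE'mem.2 ⟨a, ha, rfl⟩, pr b, hE'mem.2 ⟨b, hb, rfl⟩, fun h => ?_⟩
      have h1 : b * pr a = 0 := by
        show b * (a + adj σ f a) = 0
        rw [mul_add, hE.orth b hb a ha hbn.1, hE.orth b hb _ (hEadj a ha) hbn.2, add_zero]
      rw [h, hapr b hb] at h1
      exact hE.ne_zero b hb h1
    · obtain ⟨a, ha, rfl⟩ := hE'mem.1 hx
      show adj σ f (a + adj σ f a) = a + adj σ f a
      rw [hf.adj_add, hf.adj_adj, add_comm]

/-- Aschbacher's reduction for irreducible groups of isometries, with the factors of a central product spanned by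
perfect subgroups. -/
theorem star_reduction_spanned [Fintype F] (hn2 : 2 ≤ Fintype.card ι) (hf : IsReflexive σ ε f)
    {H : Subgroup (GL ι F)} (hfix : Cfsg.Geo.FixesForm (Cfsg.Geo.matrixSet H) f)
    (hirr : Cfsg.Geo.ActsIrreducibly (Cfsg.Geo.matrixSet H)) :
    HasOrthDecomposition f H ∨ HasSingularPair f H ∨ HasClosedField σ f H ∨ HasFormTensor σ f H ∨
      HasAbelianSocle H ∨ HasSpannedProduct H ∨ ∃ P, IsSimpleCore H P := by
  classical
  haveI : Nonempty ι := Fintype.card_pos_iff.1 (by omega)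
  have hHH : Normalizes H H := fun h hh x hx => mul_mem (mul_mem hh hx) (inv_mem hh)
  have hHZ : ¬ H ≤ Cfsg.Geo.scalars ι F := by
    intro h
    obtain ⟨i⟩ := ‹Nonempty ι›
    let v : ι → F := Pi.single i 1
    have hv : v ≠ 0 := fun h0 => by simpa [v] using congrFun h0 i
    rcases (actsIrreducibly_iff.1 hirr) (Submodule.span F {v}) fun g hg => scalar_stabilizes (h hg) _ with h1 | h1
    · exact hv (Submodule.span_singleton_eq_bot.1 h1)
    · have h2 := congrArg (fun W : Submodule F (ι → F) => Module.finrank F W) h1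
      simp only [finrank_top, Module.finrank_fintype_fun_eq_card, finrank_span_singleton hv] at h2
      omega
  let Z := H ⊓ Cfsg.Geo.scalars ι F
  let S : Set (Subgroup (GL ι F)) := {N | Z < N ∧ N ≤ H ∧ Normalizes H N}
  obtain ⟨N, ⟨hZN, hNH, hn⟩, hNmin⟩ := (wellFounded_lt (α := Subgroup (GL ι F))).has_min S
    ⟨H, lt_of_le_of_ne inf_le_left fun h => hHZ (h ▸ inf_le_right), le_rfl, hHH⟩
  have hZ : ∀ x ∈ N, x ∈ Cfsg.Geo.scalars ι F → x ∈ Z := fun x hx hs => ⟨hNH hx, hs⟩
  have hNs : ¬ N ≤ Cfsg.Geo.scalars ι F := fun h =>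
    hZN.not_ge fun x hx => hZ x hx (h hx)
  have hmin : ∀ M ≤ N, Normalizes H M → M ≤ Z ∨ M ⊔ Z = N := by
    intro M hM hMn
    by_cases h : M ≤ Z
    · exact Or.inl h
    refine Or.inr (by_contra fun hne => ?_)
    have hle : M ⊔ Z ≤ N := sup_le hM hZN.le
    refine hNmin (M ⊔ Z) ⟨lt_of_le_of_ne le_sup_right fun he => h (he ▸ le_sup_left),
      hle.trans hNH, ?_⟩ (lt_of_le_of_ne hle hne)
    intro g hg x hx
    obtain ⟨a, ha, s, hs, rfl⟩ := Subgroup.mem_sup_of_normal_right.1
      ((sup_le_sup_left (inf_le_right : Z ≤ _) M) hx)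
    have hsZ : s ∈ Z := by
      refine hZ s ?_ hs
      simpa using mul_mem (inv_mem (hM ha)) (hle hx)
    rw [conj_mul_scalar hs]
    exact mul_mem (Subgroup.mem_sup_left (hMn g hg a ha)) (Subgroup.mem_sup_right hsZ)
  rcases normal_star hf hfix hNH hirr hn hNs with h | h | h | h | habs
  · exact Or.inl h
  · exact Or.inr (Or.inl h)
  · exact Or.inr (Or.inr (Or.inl h))
  · exact Or.inr (Or.inr (Or.inr (Or.inl h)))
  right; right; right; right
  by_cases hD : ⁅N, N⁆ ≤ Cfsg.Geo.scalars ι F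
  · obtain ⟨r, m, hr, hm, hpow⟩ := card_eq_pow_of_abelian hn2 hn inf_le_right hmin habs hD
    refine Or.inl ⟨N, r, m, hr, hm, hNH, hn, habs, hD, hpow, fun M hM hMn hMc => ?_⟩
    rcases hmin M hM hMn with h | h
    · exact h.trans inf_le_right
    · exfalso
      apply hNs
      intro x hx
      refine mem_scalars_of_commute habs fun y hy => ?_
      rw [← h] at hx hy
      obtain ⟨a, ha, s, hs, rfl⟩ := Subgroup.mem_sup_of_normal_right.1
        ((sup_le_sup_left (inf_le_right : Z ≤ _) M) hx)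
      obtain ⟨b, hb, t, ht, rfl⟩ := Subgroup.mem_sup_of_normal_right.1
        ((sup_le_sup_left (inf_le_right : Z ≤ _) M) hy)
      calc a * s * (b * t) = a * b * (s * t) := by
            rw [mul_assoc a, ← mul_assoc s, scalars_comm hs (g := b)]; simp only [mul_assoc]
        _ = b * a * (t * s) := by rw [hMc a ha b hb, scalars_comm hs (g := t)]
        _ = b * t * (a * s) := by
            rw [mul_assoc b t, ← mul_assoc t, scalars_comm ht (g := a)]; simp only [mul_assoc]
  · rcases exists_simpleCore_or_spanned inf_le_right hNH hn hZN.le hZ hmin habs hD with h | h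
    · exact Or.inr (Or.inr ⟨_, h⟩)
    · exact Or.inr (Or.inl h)

/-- Aschbacher's reduction for irreducible groups of isometries. -/
theorem star_reduction [Fintype F] (hn2 : 2 ≤ Fintype.card ι) (hf : IsReflexive σ ε f)
    {H : Subgroup (GL ι F)} (hfix : Cfsg.Geo.FixesForm (Cfsg.Geo.matrixSet H) f)
    (hirr : Cfsg.Geo.ActsIrreducibly (Cfsg.Geo.matrixSet H)) :
    HasOrthDecomposition f H ∨ HasSingularPair f H ∨ HasClosedField σ f H ∨ HasFormTensor σ f H ∨
      HasAbelianSocle H ∨ HasCentralProduct H ∨ ∃ P, IsSimpleCore H P := by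
  rcases star_reduction_spanned hn2 hf hfix hirr with h | h | h | h | h | h | h
  · exact Or.inl h
  · exact Or.inr (Or.inl h)
  · exact Or.inr (Or.inr (Or.inl h))
  · exact Or.inr (Or.inr (Or.inr (Or.inl h)))
  · exact Or.inr (Or.inr (Or.inr (Or.inr (Or.inl h))))
  · exact Or.inr (Or.inr (Or.inr (Or.inr (Or.inr (Or.inl h.hasCentralProduct)))))
  · exact Or.inr (Or.inr (Or.inr (Or.inr (Or.inr (Or.inr h)))))

end CfsgLib.AschbacherForms
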