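import Cfsg.Agent.Aschbacher.Forms
import Cfsg.Agent.Aschbacher.Core

/-!
Reflexive sesquilinear forms given as functions: orthogonal subspaces and adjoints of matrices.
-/

set_option autoImplicit false
set_option linter.unusedSectionVars false

namespace CfsgLib.AschbacherForms

open Matrix CfsgLib.Aschbacher

variable {ι : Type} [Fintype ι] [DecidableEq ι] {F : Type*} [Field F]

/-- A non-degenerate reflexive sesquilinear form. -/
structure IsReflexive (σ : F ≃+* F) (ε : F) (f : (ι → F) → (ι → F) → F) : Prop where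
  sesq : IsSesq σ f
  invol : ∀ a : F, σ (σ a) = a
  refl : ∀ u v, f v u = ε * σ (f u v)
  nondegenerate : Cfsg.Geo.IsNondegenerateForm f

theorem isReflexive_symplectic {f : (ι → F) → (ι → F) → F} (h : Cfsg.Geo.IsSymplecticForm f) :
    IsReflexive (RingEquiv.refl F) (-1) f :=
  ⟨isSesq_of_bilinear h.bilinear, fun _ => rfl, fun u v => by
    rw [h.skew v u, RingEquiv.refl_apply, neg_one_mul], h.nondegenerate⟩

theorem isReflexive_symmetric {f : (ι → F) → (ι → F) → F} (h : Cfsg.Geo.IsSymmetricForm f) :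
    IsReflexive (RingEquiv.refl F) 1 f :=
  ⟨isSesq_of_bilinear h.bilinear, fun _ => rfl, fun u v => by
    rw [h.symm v u, RingEquiv.refl_apply, one_mul], h.nondegenerate⟩

theorem isReflexive_unitary {σ : F ≃+* F} {f : (ι → F) → (ι → F) → F}
    (h : Cfsg.Geo.IsUnitaryForm σ f) : IsReflexive σ 1 f :=
  ⟨isSesq_of_unitary h, h.involutive, fun u v => by rw [one_mul, ← h.herm], h.nondegenerate⟩

theorem isReflexive_polar {Q : (ι → F) → F} (h : Cfsg.Geo.IsNondegenerateQuadraticForm Q) :
    IsReflexive (RingEquiv.refl F) 1 (QuadraticMap.polar Q) :=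
  ⟨isSesq_of_bilinear h.polar_bilinear, fun _ => rfl, fun u v => by
    rw [QuadraticMap.polar_comm, RingEquiv.refl_apply, one_mul], h.nondegenerate⟩

/-- The adjoint of a matrix with respect to a form. -/
noncomputable def adj (σ : F ≃+* F) (f : (ι → F) → (ι → F) → F) (M : Matrix ι ι F) : Matrix ι ι F :=
  ((Cfsg.Geo.gramMatrix f)⁻¹ * Mᵀ * Cfsg.Geo.gramMatrix f).map σ.symm

namespace IsReflexive

variable {σ : F ≃+* F} {ε : F} {f : (ι → F) → (ι → F) → F} (hf : IsReflexive σ ε f)

include hf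

theorem zero_left (v : ι → F) : f 0 v = 0 := hf.sesq.zero_left v

theorem zero_right (v : ι → F) : f v 0 = 0 := hf.sesq.zero_right v

theorem neg_left (x v : ι → F) : f (-x) v = -f x v := by
  rw [← neg_one_smul F x, hf.sesq.smul_left, neg_one_mul]

theorem neg_right (x v : ι → F) : f x (-v) = -f x v := by
  rw [← neg_one_smul F v, hf.sesq.smul_right, map_neg, map_one, neg_one_mul]

theorem sub_left (x y v : ι → F) : f (x - y) v = f x v - f y v := by
  rw [sub_eq_add_neg, hf.sesq.add_left, hf.neg_left, sub_eq_add_neg]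

theorem sub_right (v x y : ι → F) : f v (x - y) = f v x - f v y := by
  rw [sub_eq_add_neg, hf.sesq.add_right, hf.neg_right, sub_eq_add_neg]

theorem orth_comm {u v : ι → F} (h : f u v = 0) : f v u = 0 := by
  rw [hf.refl, h, map_zero, mul_zero]

theorem ext_right {u v : ι → F} (h : ∀ x, f x u = f x v) : u = v := by
  by_contra hne
  obtain ⟨x, hx⟩ := (hf.nondegenerate (u - v) (sub_ne_zero.2 hne)).1
  exact hx (by rw [hf.sub_right, h, sub_self])

theorem ext_left {u v : ι → F} (h : ∀ x, f u x = f v x) : u = v := by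
  by_contra hne
  obtain ⟨x, hx⟩ := (hf.nondegenerate (u - v) (sub_ne_zero.2 hne)).2
  exact hx (by rw [hf.sub_left, h, sub_self])

theorem eps_mul [Nonempty ι] : ε * σ ε = 1 := by
  obtain ⟨v, hv⟩ := exists_ne (0 : ι → F)
  obtain ⟨x, hx⟩ := (hf.nondegenerate v hv).2
  have h := hf.refl x v
  rw [hf.refl v x, map_mul, hf.invol, ← mul_assoc] at h
  exact (mul_eq_right₀ hx).1 h.symm

theorem gram_det_unit : IsUnit (Cfsg.Geo.gramMatrix f).det :=
  (Matrix.isUnit_iff_isUnit_det _).1 (gram_isUnit hf.sesq hf.nondegenerate)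

theorem adj_spec (M : Matrix ι ι F) (u v : ι → F) : f (M *ᵥ u) v = f u (adj σ f M *ᵥ v) := by
  have h1 : (adj σ f M).map σ = (Cfsg.Geo.gramMatrix f)⁻¹ * Mᵀ * Cfsg.Geo.gramMatrix f := by
    ext i j
    simp only [adj, Matrix.map_apply, RingEquiv.apply_symm_apply]
  have h2 : (fun i => σ ((adj σ f M *ᵥ v) i)) = (adj σ f M).map σ *ᵥ fun i => σ (v i) := by
    funext i
    simp [Matrix.mulVec, dotProduct, map_sum, map_mul]
  rw [hf.sesq.gram_eq, hf.sesq.gram_eq, h2, h1, Matrix.mulVec_mulVec, mul_assoc _ Mᵀ,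
    ← mul_assoc (Cfsg.Geo.gramMatrix f), Matrix.mul_nonsing_inv _ hf.gram_det_unit, one_mul,
    ← Matrix.mulVec_mulVec, Matrix.dotProduct_mulVec u Mᵀ, Matrix.vecMul_transpose]

theorem adj_unique {M M' : Matrix ι ι F} (h : ∀ u v, f (M *ᵥ u) v = f u (M' *ᵥ v)) :
    M' = adj σ f M := by
  apply Matrix.toLin'.injective
  refine LinearMap.ext fun v => ?_
  rw [Matrix.toLin'_apply, Matrix.toLin'_apply]
  exact hf.ext_right fun x => by rw [← h, hf.adj_spec]

theorem adj_mul (M M' : Matrix ι ι F) : adj σ f (M * M') = adj σ f M' * adj σ f M :=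
  (hf.adj_unique fun u v => by
    rw [← Matrix.mulVec_mulVec, hf.adj_spec, hf.adj_spec, Matrix.mulVec_mulVec]).symm

theorem adj_add (M M' : Matrix ι ι F) : adj σ f (M + M') = adj σ f M + adj σ f M' :=
  (hf.adj_unique fun u v => by
    rw [Matrix.add_mulVec, Matrix.add_mulVec, hf.sesq.add_left, hf.sesq.add_right, hf.adj_spec,
      hf.adj_spec]).symm

theorem adj_one : adj σ f (1 : Matrix ι ι F) = 1 :=
  (hf.adj_unique fun u v => by rw [Matrix.one_mulVec, Matrix.one_mulVec]).symm

theorem adj_zero : adj σ f (0 : Matrix ι ι F) = 0 :=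
  (hf.adj_unique fun u v => by
    rw [Matrix.zero_mulVec, Matrix.zero_mulVec, hf.zero_left, hf.zero_right]).symm

theorem adj_smul (c : F) (M : Matrix ι ι F) : adj σ f (c • M) = σ c • adj σ f M :=
  (hf.adj_unique fun u v => by
    rw [Matrix.smul_mulVec, Matrix.smul_mulVec, hf.sesq.smul_left, hf.sesq.smul_right,
      hf.adj_spec, hf.invol]).symm

theorem adj_adj (M : Matrix ι ι F) : adj σ f (adj σ f M) = M :=
  (hf.adj_unique fun u v => by
    rw [hf.refl v (adj σ f M *ᵥ u), ← hf.adj_spec, ← hf.refl]).symm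

theorem adj_injective : Function.Injective (adj σ f) :=
  Function.LeftInverse.injective hf.adj_adj

theorem adj_isometry {g : GL ι F} (hg : ∀ u v, f (mat g *ᵥ u) (mat g *ᵥ v) = f u v) :
    adj σ f (mat g) = mat g⁻¹ :=
  (hf.adj_unique fun u v => by
    conv_lhs => rw [← mulVec_inv_mulVec g v]
    exact hg _ _).symm

theorem adj_conj {g : GL ι F} (hg : ∀ u v, f (mat g *ᵥ u) (mat g *ᵥ v) = f u v)
    (M : Matrix ι ι F) : adj σ f (mat g * M * mat g⁻¹) = mat g * adj σ f M * mat g⁻¹ := by
  have h := hf.adj_isometry hg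
  have h' : adj σ f (mat g⁻¹) = mat g := by rw [← h, hf.adj_adj]
  rw [hf.adj_mul, hf.adj_mul, h, h', mul_assoc]

theorem adj_mem_commutant {N : Subgroup (GL ι F)}
    (hN : Cfsg.Geo.FixesForm (Cfsg.Geo.matrixSet N) f) {M : Matrix ι ι F}
    (hM : M ∈ commutant (Cfsg.Geo.matrixSet N)) : adj σ f M ∈ commutant (Cfsg.Geo.matrixSet N) := by
  rw [mem_commutant, forall_matrixSet] at hM ⊢
  intro x hx
  have h := congrArg (adj σ f) (hM x⁻¹ (inv_mem hx))
  rw [hf.adj_mul, hf.adj_mul, hf.adj_isometry (fun u v => hN _ (mem_matrixSet (inv_mem hx)) u v),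
    inv_inv] at h
  exact h.symm

/-- The orthogonal complement of a subspace. -/
def perp (W : Submodule F (ι → F)) : Submodule F (ι → F) where
  carrier := {x | ∀ w ∈ W, f x w = 0}
  add_mem' {a b} ha hb w hw := by rw [hf.sesq.add_left, ha w hw, hb w hw, add_zero]
  zero_mem' w _ := hf.zero_left w
  smul_mem' c x hx w hw := by rw [hf.sesq.smul_left, hx w hw, mul_zero]

theorem mem_perp {W : Submodule F (ι → F)} {x : ι → F} :
    x ∈ hf.perp W ↔ ∀ w ∈ W, f x w = 0 := Iff.rfl

theorem mem_perp' {W : Submodule F (ι → F)} {x : ι → F} :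
    x ∈ hf.perp W ↔ ∀ w ∈ W, f w x = 0 :=
  ⟨fun h w hw => hf.orth_comm (h w hw), fun h w hw => hf.orth_comm (h w hw)⟩

theorem finrank_perp (W : Submodule F (ι → F)) :
    Module.finrank F (hf.perp W) + Module.finrank F W = Fintype.card ι := by
  let b := Module.finBasis F W
  let L : (ι → F) →ₗ[F] (Fin (Module.finrank F W) → F) :=
    { toFun := fun x i => f x (b i).1
      map_add' := fun x y => funext fun i => hf.sesq.add_left _ _ _
      map_smul' := fun c x => funext fun i => hf.sesq.smul_left _ _ _ }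
  have hker : LinearMap.ker L = hf.perp W := by
    ext x
    rw [LinearMap.mem_ker, hf.mem_perp]
    refine ⟨fun h w hw => ?_, fun h => funext fun i => h _ (b i).2⟩
    have hsum := congrArg Subtype.val (b.sum_repr ⟨w, hw⟩)
    rw [Submodule.coe_sum] at hsum
    simp only [Submodule.coe_smul] at hsum
    rw [← hsum, hf.sesq.sum_right]
    exact Finset.sum_eq_zero fun i _ => by
      rw [hf.sesq.smul_right, show f x (b i).1 = 0 from congrFun h i, mul_zero]
  have hsurj : LinearMap.range L = ⊤ := by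
    by_contra hne
    obtain ⟨φ, hφ0, hφ⟩ := Submodule.exists_le_ker_of_lt_top _ (lt_top_iff_ne_top.2 hne)
    apply hφ0
    have hz : ∑ i, σ (φ (Pi.single i 1)) • (b i).1 = 0 := hf.ext_right fun x => by
      rw [hf.zero_right, hf.sesq.sum_right]
      have h0 : φ (L x) = 0 := hφ ⟨x, rfl⟩
      rw [LinearMap.pi_apply_eq_sum_univ φ (L x)] at h0
      refine (Finset.sum_congr rfl fun i _ => ?_).trans h0
      rw [hf.sesq.smul_right, hf.invol, mul_comm, smul_eq_mul]
      congr 2
      funext j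
      simp [Pi.single_apply, eq_comm]
    have hli := Fintype.linearIndependent_iff.1 b.linearIndependent
      (fun i => σ (φ (Pi.single i 1))) (Subtype.ext (by simpa using hz))
    refine LinearMap.pi_ext fun i c => ?_
    have h1 : φ (Pi.single i 1) = 0 := by simpa using hli i
    rw [show (Pi.single i c : Fin (Module.finrank F W) → F) = c • Pi.single i 1 by
      rw [← Pi.single_smul, smul_eq_mul, mul_one], map_smul, h1, smul_zero, LinearMap.zero_apply]
  have h := LinearMap.finrank_range_add_finrank_ker L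
  rw [hker, hsurj, finrank_top, Module.finrank_fintype_fun_eq_card, Fintype.card_fin,
    Module.finrank_fintype_fun_eq_card] at h
  omega

theorem perp_perp (W : Submodule F (ι → F)) : hf.perp (hf.perp W) = W := by
  refine (Submodule.eq_of_le_of_finrank_eq (fun x hx => ?_) ?_).symm
  · exact fun w hw => hf.orth_comm (hw x hx)
  · have h1 := hf.finrank_perp W
    have h2 := hf.finrank_perp (hf.perp W)
    omega

theorem le_perp_iff {W : Submodule F (ι → F)} :
    W ≤ hf.perp W ↔ Cfsg.Geo.IsTotallySingularFor f W := Iff.rfl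

theorem two_finrank_le {W : Submodule F (ι → F)} (h : Cfsg.Geo.IsTotallySingularFor f W) :
    2 * Module.finrank F W ≤ Fintype.card ι := by
  have h1 := Submodule.finrank_mono (hf.le_perp_iff.2 h)
  have h2 := hf.finrank_perp W
  omega

theorem isNondegenerateOn_iff {W : Submodule F (ι → F)} :
    Cfsg.Geo.IsNondegenerateOn f W ↔ W ⊓ hf.perp W = ⊥ := by
  constructor
  · intro h
    rw [eq_bot_iff]
    rintro x ⟨hx, hx'⟩
    by_contra hne
    obtain ⟨y, hy, hxy⟩ := (h x hx hne).2
    exact hxy (hx' y hy)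
  · intro h w hw hne
    have hnot : w ∉ hf.perp W := fun hp => hne (h.le ⟨hw, hp⟩)
    rw [hf.mem_perp] at hnot
    push Not at hnot
    obtain ⟨x, hx, hwx⟩ := hnot
    exact ⟨⟨x, hx, fun h0 => hwx (hf.orth_comm h0)⟩, ⟨x, hx, hwx⟩⟩

theorem sup_perp {W : Submodule F (ι → F)} (h : Cfsg.Geo.IsNondegenerateOn f W) :
    W ⊔ hf.perp W = ⊤ := by
  apply Submodule.eq_top_of_finrank_eq
  have h1 := Submodule.finrank_sup_add_finrank_inf_eq W (hf.perp W)
  rw [hf.isNondegenerateOn_iff.1 h, finrank_bot, add_zero] at h1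
  rw [h1, Module.finrank_fintype_fun_eq_card, ← hf.finrank_perp W, add_comm]

theorem isNondegenerateOn_perp {W : Submodule F (ι → F)} (h : Cfsg.Geo.IsNondegenerateOn f W) :
    Cfsg.Geo.IsNondegenerateOn f (hf.perp W) := by
  rw [hf.isNondegenerateOn_iff] at h ⊢
  rw [hf.perp_perp, inf_comm]
  exact h

theorem stabilizer_perp {g : GL ι F} (hg : ∀ u v, f (mat g *ᵥ u) (mat g *ᵥ v) = f u v)
    {W : Submodule F (ι → F)} (hW : g ∈ Cfsg.Geo.subspaceStabilizer W) :
    g ∈ Cfsg.Geo.subspaceStabilizer (hf.perp W) := by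
  rw [mem_subspaceStabilizer_iff]
  intro x hx w hw
  rw [← mulVec_inv_mulVec g w, hg]
  exact hx _ (mem_subspaceStabilizer_iff.1 (inv_mem hW) w hw)

end IsReflexive

end CfsgLib.AschbacherForms
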