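import Cfsg.Agent.AschbacherForms.StarReduction

/-!
The action of adjoints on small field extensions, and involutory skew elements.
-/

set_option autoImplicit false
set_option linter.unusedSectionVars false
set_option linter.style.haveILetI false

namespace CfsgLib.AschbacherForms

open Matrix CfsgLib.Aschbacher

variable {ι : Type} [Fintype ι] [DecidableEq ι] {F : Type*} [Field F]

/-- A complementary pair of subspaces of equal dimension is a decomposition. -/
theorem decomposition_pair {W U : Submodule F (ι → F)} {m : ℕ} (hm : 0 < m) (hWU : IsCompl W U)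
    (hW : Module.finrank F W = m) (hU : Module.finrank F U = m) :
    Cfsg.Geo.IsMDecomposition m ![W, U] where
  two_le := le_rfl
  pos := hm
  finrank_eq := fun i => by fin_cases i <;> assumption
  indep := by
    intro i
    fin_cases i
    · refine Disjoint.mono_right (iSup₂_le fun j hj => ?_) hWU.disjoint
      fin_cases j
      · exact absurd rfl hj
      · exact le_rfl
    · refine Disjoint.mono_right (iSup₂_le fun j hj => ?_) hWU.disjoint.symm
      fin_cases j
      · exact le_rfl
      · exact absurd rfl hj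
  iSup_eq_top := by
    rw [eq_top_iff, ← hWU.sup_eq_top]
    exact sup_le (le_iSup ![W, U] 0) (le_iSup ![W, U] 1)

/-- A function with the homogeneity of a quadratic form polarising to a symplectic form is a quadratic form. -/
theorem isQuadraticForm_of_polar {Q : (ι → F) → F} {f : (ι → F) → (ι → F) → F}
    (hf : Cfsg.Geo.IsBilinearForm f) (hnd : Cfsg.Geo.IsNondegenerateForm f)
    (hsmul : ∀ (c : F) (v : ι → F), Q (c • v) = c ^ 2 * Q v)
    (hpol : ∀ u v, QuadraticMap.polar Q u v = f u v) :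
    Cfsg.Geo.IsNondegenerateQuadraticForm Q := by
  have h : QuadraticMap.polar Q = f := funext fun u => funext fun v => hpol u v
  exact ⟨hsmul, h ▸ hf, h ▸ hnd⟩

variable {σ : F ≃+* F} {ε : F} {f : (ι → F) → (ι → F) → F}

/-- The elements of a subalgebra fixed by adjoints, for bilinear forms and commutative subalgebras. -/
def selfAdjointPart (hf : IsReflexive (RingEquiv.refl F) ε f) (K : Subalgebra F (Matrix ι ι F))
    (hc : ∀ x ∈ K, ∀ y ∈ K, x * y = y * x) : Subalgebra F (Matrix ι ι F) where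
  carrier := {x | x ∈ K ∧ adj (RingEquiv.refl F) f x = x}
  mul_mem' {a b} ha hb := ⟨K.mul_mem ha.1 hb.1, by rw [hf.adj_mul, ha.2, hb.2, hc b hb.1 a ha.1]⟩
  one_mem' := ⟨K.one_mem, hf.adj_one⟩
  add_mem' {a b} ha hb := ⟨K.add_mem ha.1 hb.1, by rw [hf.adj_add, ha.2, hb.2]⟩
  zero_mem' := ⟨K.zero_mem, hf.adj_zero⟩
  algebraMap_mem' c := ⟨K.algebraMap_mem c, by
    rw [Algebra.algebraMap_eq_smul_one, hf.adj_smul, hf.adj_one]; rfl⟩

/-- A field of degree two with non-trivial adjoints contains an element of reduced trace one. -/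
theorem exists_trace_one [Nonempty ι] (hf : IsReflexive (RingEquiv.refl F) ε f) (h2 : (2 : F) = 0)
    {K : Subalgebra F (Matrix ι ι F)} (hK : Cfsg.Geo.IsFieldSubalgebra 2 K)
    (hadj : ∀ k ∈ K, adj (RingEquiv.refl F) f k ∈ K)
    (hne : ∃ k ∈ K, adj (RingEquiv.refl F) f k ≠ k) :
    (∃ z ∈ K, z + adj (RingEquiv.refl F) f z = 1) ∧
      ∀ x ∈ K, adj (RingEquiv.refl F) f x = x → ∃ c : F, x = c • (1 : Matrix ι ι F) := by
  set K₀ := selfAdjointPart hf K hK.comm
  have hle : K₀ ≤ K := fun x hx => hx.1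
  have h1 : Module.finrank F K₀ = 1 := by
    have hlt : Subalgebra.toSubmodule K₀ < Subalgebra.toSubmodule K := by
      refine lt_of_le_of_ne hle fun h => ?_
      obtain ⟨k, hk, hk'⟩ := hne
      have hk0 : k ∈ Subalgebra.toSubmodule K₀ := h ▸ hk
      exact hk' hk0.2
    have h3 := Submodule.finrank_lt_finrank_of_lt hlt
    rw [Subalgebra.finrank_toSubmodule, Subalgebra.finrank_toSubmodule, hK.finrank_eq] at h3
    have h4 : 0 < Module.finrank F K₀ := Module.finrank_pos
    omega
  have hscal : ∀ x ∈ K, adj (RingEquiv.refl F) f x = x → ∃ c : F, x = c • (1 : Matrix ι ι F) := by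
    intro x hx hxx
    obtain ⟨c, hc⟩ := (finrank_eq_one_iff_of_nonzero' (1 : K₀)
      (fun h => one_ne_zero (congrArg Subtype.val h))).1 h1 ⟨x, hx, hxx⟩
    exact ⟨c, (congrArg Subtype.val hc).symm⟩
  refine ⟨?_, hscal⟩
  obtain ⟨k, hk, hk'⟩ := hne
  obtain ⟨c, hc⟩ := hscal (k + adj (RingEquiv.refl F) f k) (K.add_mem hk (hadj k hk))
    (by rw [hf.adj_add, hf.adj_adj, add_comm])
  have hc0 : c ≠ 0 := by
    rintro rfl
    apply hk'
    rw [zero_smul, add_eq_zero_iff_eq_neg] at hc
    have hneg : adj (RingEquiv.refl F) f k = -adj (RingEquiv.refl F) f k := by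
      rw [eq_neg_iff_add_eq_zero, ← two_smul F, h2, zero_smul]
    rw [hneg]
    exact hc.symm
  refine ⟨c⁻¹ • k, K.smul_mem hk _, ?_⟩
  rw [hf.adj_smul, RingEquiv.refl_apply, ← smul_add, hc, smul_smul, inv_mul_cancel₀ hc0, one_smul]

/-- Adjoints fix a field of odd degree, for bilinear forms. -/
theorem adj_eq_self_of_odd [Finite F] [Nonempty ι] (hf : IsReflexive (RingEquiv.refl F) ε f) {r : ℕ}
    (hr : Odd r) {K : Subalgebra F (Matrix ι ι F)} (hK : Cfsg.Geo.IsFieldSubalgebra r K)
    (hadj : ∀ k ∈ K, adj (RingEquiv.refl F) f k ∈ K) {k : Matrix ι ι F} (hk : k ∈ K) :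
    adj (RingEquiv.refl F) f k = k := by
  letI : CommRing K :=
    { (inferInstance : Ring K) with mul_comm := fun a b => Subtype.ext (hK.comm _ a.2 _ b.2) }
  have hfield : IsField K :=
    { exists_pair_ne := ⟨0, 1, fun h => zero_ne_one (congrArg Subtype.val h)⟩
      mul_comm := fun a b => Subtype.ext (hK.comm _ a.2 _ b.2)
      mul_inv_cancel := fun {a} ha => by
        obtain ⟨y, hy, hay⟩ := hK.inv _ a.2 (fun h => ha (Subtype.ext h))
        exact ⟨⟨y, hy⟩, Subtype.ext hay⟩ }
  letI : Field K := hfield.toField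
  haveI : Finite K := Finite.of_injective (Subtype.val : K → Matrix ι ι F) Subtype.val_injective
  let τ : K ≃ₐ[F] K :=
    { toFun := fun x => ⟨_, hadj x.1 x.2⟩
      invFun := fun x => ⟨_, hadj x.1 x.2⟩
      left_inv := fun x => Subtype.ext (hf.adj_adj _)
      right_inv := fun x => Subtype.ext (hf.adj_adj _)
      map_mul' := fun x y => Subtype.ext (by
        show adj (RingEquiv.refl F) f (x.1 * y.1) = _
        rw [hf.adj_mul]
        exact hK.comm _ (hadj y.1 y.2) _ (hadj x.1 x.2))
      map_add' := fun x y => Subtype.ext (hf.adj_add _ _)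
      commutes' := fun c => Subtype.ext (by
        show adj (RingEquiv.refl F) f (algebraMap F (Matrix ι ι F) c) = algebraMap F (Matrix ι ι F) c
        rw [Algebra.algebraMap_eq_smul_one, hf.adj_smul, hf.adj_one]; rfl) }
  have hτ2 : τ ^ 2 = 1 := AlgEquiv.ext fun x => by
    rw [pow_two]; exact Subtype.ext (hf.adj_adj _)
  have hτr : orderOf τ ∣ r := by
    rw [← hK.finrank_eq, ← IsGalois.card_aut_eq_finrank F K]
    exact orderOf_dvd_natCard τ
  have hone : τ = 1 := by
    rw [← orderOf_eq_one_iff]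
    exact Nat.dvd_one.1 ((Nat.coprime_two_left.2 hr) ▸ Nat.dvd_gcd (orderOf_dvd_of_pow_eq_one hτ2) hτr)
  exact congrArg Subtype.val (DFunLike.congr_fun hone ⟨k, hk⟩)

/-- Two orthogonal idempotents exchanged by adjoints give a singular pair. -/
theorem singularPair_of_idem (hf : IsReflexive σ ε f) {H : Subgroup (GL ι F)}
    (hirr : Cfsg.Geo.ActsIrreducibly (Cfsg.Geo.matrixSet H)) {e e' : Matrix ι ι F}
    (he : e * e = e) (he0 : e ≠ 0) (he' : e' * e' = e') (he'0 : e' ≠ 0) (hee' : e * e' = 0)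
    (he'e : e' * e = 0) (hsum : e + e' = 1)
    (hperm : ∀ h ∈ H, (mat h * e * mat h⁻¹ = e ∧ mat h * e' * mat h⁻¹ = e') ∨
      (mat h * e * mat h⁻¹ = e' ∧ mat h * e' * mat h⁻¹ = e))
    (hadj : adj σ f e = e') :
    ∃ (m : ℕ) (D : Fin 2 → Submodule F (ι → F)), Cfsg.Geo.IsMDecomposition m D ∧ 2 * m = Fintype.card ι ∧
      (∀ i, Cfsg.Geo.IsTotallySingularFor f (D i)) ∧ H ≤ Cfsg.Geo.decompositionStabilizer D := by
  classical
  have hne : e ≠ e' := fun h => he0 (by rw [← he]; nth_rw 2 [h]; exact hee')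
  have hE : IsFamily H ({e, e'} : Finset (Matrix ι ι F)) := by
    refine ⟨?_, ?_, ?_, by rw [Finset.sum_pair hne, hsum], ?_⟩
    · simp [he, he']
    · simp [he0, he'0]
    · simp [hee', he'e]
    · intro h hh x hx
      rw [Finset.mem_insert, Finset.mem_singleton] at hx ⊢
      rcases hperm h hh with ⟨h1, h2⟩ | ⟨h1, h2⟩ <;> rcases hx with hx | hx <;> rw [hx] <;>
        first
        | exact Or.inl h1
        | exact Or.inl h2
        | exact Or.inr h1
        | exact Or.inr h2
  have hcard : ({e, e'} : Finset (Matrix ι ι F)).card = 2 := Finset.card_pair hne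
  obtain ⟨en, m, hD, hm, hle⟩ := hE.exists_decomposition hirr hcard.ge
  have hadj' : adj σ f e' = e := by rw [← hadj, hf.adj_adj]
  have hts : ∀ i, Cfsg.Geo.IsTotallySingularFor f (imOf (en i).1) := by
    intro i u hu v hv
    have hmem : (en i).1 = e ∨ (en i).1 = e' := (Finset.mem_insert.1 (en i).2).imp_right Finset.mem_singleton.1
    rw [mem_imOf_iff (hE.idem _ (en i).2)] at hu hv
    rw [← hu, ← hv, hf.adj_spec, Matrix.mulVec_mulVec]
    rcases hmem with h | h <;> rw [h]
    · rw [hadj, he'e, Matrix.zero_mulVec, hf.zero_right]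
    · rw [hadj', hee', Matrix.zero_mulVec, hf.zero_right]
  revert en
  rw [hcard] at hm ⊢
  intro en hD hle hts
  exact ⟨m, _, hD, hm, hts, hle⟩

/-- A skew element with scalar square permuted up to scalars gives a singular pair or a quadratic field. -/
theorem skew_dichotomy [Fintype F] [Nonempty ι] (hf : IsReflexive (RingEquiv.refl F) ε f)
    (h2 : (2 : F) ≠ 0) {H : Subgroup (GL ι F)}
    (hirr : Cfsg.Geo.ActsIrreducibly (Cfsg.Geo.matrixSet H)) {J : Matrix ι ι F} {δ : F} (hδ : δ ≠ 0)
    (hJJ : J * J = δ • 1) (hJ : adj (RingEquiv.refl F) f J = -J)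
    (hconj : ∀ h ∈ H, ∃ c : F, mat h * J * mat h⁻¹ = c • J) :
    (∃ (m : ℕ) (D : Fin 2 → Submodule F (ι → F)), Cfsg.Geo.IsMDecomposition m D ∧
      2 * m = Fintype.card ι ∧ (∀ i, Cfsg.Geo.IsTotallySingularFor f (D i)) ∧
      H ≤ Cfsg.Geo.decompositionStabilizer D) ∨
    ∃ K : Subalgebra F (Matrix ι ι F), Cfsg.Geo.IsFieldSubalgebra 2 K ∧
      Cfsg.Geo.IsAdjointClosedFor f K ∧ ¬ Cfsg.Geo.IsSelfAdjointFor f K ∧
      H ≤ Cfsg.Geo.subalgebraNormalizer K ∧ (∀ k ∈ K, ∃ a b : F, k = a • 1 + b • J) ∧ J ∈ K := by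
  have hJ0 : J ≠ 0 := fun h => by
    rw [h, zero_mul, eq_comm, smul_eq_zero] at hJJ
    rcases hJJ with h1 | h1
    · exact hδ h1
    · exact one_ne_zero h1
  have hnsc : ∀ a : F, J ≠ a • 1 := fun a ha => by
    rw [ha, hf.adj_smul, hf.adj_one, RingEquiv.refl_apply, eq_neg_iff_add_eq_zero, ← add_smul,
      smul_eq_zero] at hJ
    rcases hJ with h1 | h1
    · rw [← two_mul, mul_eq_zero] at h1
      exact hJ0 (by rw [ha, h1.resolve_left h2, zero_smul])
    · exact one_ne_zero h1
  have hc2 : ∀ h ∈ H, ∀ c : F, mat h * J * mat h⁻¹ = c • J → c = 1 ∨ c = -1 := by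
    intro h hh c hc
    have h1 : mat h * (J * J) * mat h⁻¹ = (c * c) • (J * J) := by
      calc mat h * (J * J) * mat h⁻¹ = (mat h * J * mat h⁻¹) * (mat h * J * mat h⁻¹) := by
            simp [mat, mul_assoc]
        _ = _ := by rw [hc, Matrix.smul_mul, Matrix.mul_smul, smul_smul]
    rw [hJJ, Matrix.mul_smul, mul_one, Matrix.smul_mul, mat_mul_inv, smul_smul] at h1
    have h3 : (δ - c * c * δ) • (1 : Matrix ι ι F) = 0 := by rw [sub_smul, ← h1, sub_self]
    have h4 := (smul_eq_zero.1 h3).resolve_right one_ne_zero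
    have h5 : (c - 1) * (c + 1) = 0 := by
      apply mul_left_cancel₀ hδ
      linear_combination -h4
    rcases mul_eq_zero.1 h5 with h6 | h6
    · exact Or.inl (sub_eq_zero.1 h6)
    · exact Or.inr (eq_neg_of_add_eq_zero_left h6)
  have hmul : ∀ a b a' b' : F, (a • (1 : Matrix ι ι F) + b • J) * (a' • 1 + b' • J) =
      (a * a' + b * b' * δ) • 1 + (a * b' + b * a') • J := by
    intro a b a' b'
    simp only [add_mul, mul_add, Matrix.smul_mul, Matrix.mul_smul, one_mul, mul_one, hJJ, smul_smul]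
    module
  have hadjl : ∀ a b : F, adj (RingEquiv.refl F) f (a • 1 + b • J) = a • 1 + (-b) • J := fun a b => by
    rw [hf.adj_add, hf.adj_smul, hf.adj_smul, hf.adj_one, hJ, RingEquiv.refl_apply, RingEquiv.refl_apply,
      smul_neg, neg_smul]
  have hconjl : ∀ h ∈ H, ∀ a b : F, ∃ c : F, (c = 1 ∨ c = -1) ∧
      mat h * (a • 1 + b • J) * mat h⁻¹ = a • 1 + (b * c) • J := by
    intro h hh a b
    obtain ⟨c, hc⟩ := hconj h hh
    refine ⟨c, hc2 h hh c hc, ?_⟩
    rw [mul_add, add_mul, Matrix.mul_smul, Matrix.mul_smul, Matrix.smul_mul, Matrix.smul_mul, mul_one,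
      mat_mul_inv, hc, smul_smul]
  by_cases hsq : IsSquare δ
  · obtain ⟨s, rfl⟩ := hsq
    have hs : s ≠ 0 := left_ne_zero_of_mul hδ
    left
    set p : F := 2⁻¹
    have hp : p + p = 1 := by rw [← two_mul, mul_inv_cancel₀ h2]
    let e : F → Matrix ι ι F := fun c => p • 1 + (c * (p * s⁻¹)) • J
    have hee : ∀ c : F, c * c = 1 → e c * e c = e c := by
      intro c hc
      simp only [e, hmul]
      congr 2
      · field_simp
        linear_combination p ^ 2 * hc + p * hp
      · linear_combination (c * (p * s⁻¹)) * hp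
    have hoff' : ∀ c : F, c * c = 1 → e c * e (-c) = 0 := by
      intro c hc
      simp only [e, hmul]
      have z1 : p * p + c * (p * s⁻¹) * (-c * (p * s⁻¹)) * (s * s) = 0 := by
        field_simp
        linear_combination -(p ^ 2) * hc
      have z2 : p * (-c * (p * s⁻¹)) + c * (p * s⁻¹) * p = 0 := by ring
      rw [z1, z2, zero_smul, zero_smul, add_zero]
    have hoff : e 1 * e (-1) = 0 ∧ e (-1) * e 1 = 0 :=
      ⟨hoff' 1 (mul_one 1), by simpa using hoff' (-1) (by ring)⟩
    have hne : ∀ c : F, c * c = 1 → e c ≠ 0 := by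
      intro c hc h0
      refine hnsc (-(p * (c * (p * s⁻¹))⁻¹)) ?_
      have hc0 : c * (p * s⁻¹) ≠ 0 :=
        mul_ne_zero (left_ne_zero_of_mul_eq_one hc) (mul_ne_zero (inv_ne_zero h2) (inv_ne_zero hs))
      have h1 : (c * (p * s⁻¹)) • J = -(p • (1 : Matrix ι ι F)) := eq_neg_of_add_eq_zero_right h0
      have h2' := congrArg (fun M => (c * (p * s⁻¹))⁻¹ • M) h1
      simp only [smul_smul, inv_mul_cancel₀ hc0, one_smul, smul_neg, neg_smul] at h2' ⊢
      rw [h2', mul_comm]
    refine singularPair_of_idem hf hirr (e := e 1) (e' := e (-1)) (hee 1 (mul_one 1))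
      (hne 1 (mul_one 1)) (hee (-1) (by ring)) (hne (-1) (by ring)) hoff.1 hoff.2 ?_ (fun h hh => ?_) ?_
    · simp only [e]
      calc p • (1 : Matrix ι ι F) + (1 * (p * s⁻¹)) • J + (p • 1 + (-1 * (p * s⁻¹)) • J)
          = (p + p) • (1 : Matrix ι ι F) := by module
        _ = 1 := by rw [hp, one_smul]
    · obtain ⟨c, hc⟩ := hconj h hh
      have happ : ∀ d : F, mat h * e d * mat h⁻¹ = e (d * c) := fun d => by
        simp only [e]
        rw [mul_add, add_mul, Matrix.mul_smul, Matrix.mul_smul, Matrix.smul_mul, Matrix.smul_mul, mul_one,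
          mat_mul_inv, hc, smul_smul]
        congr 2; ring
      rcases hc2 h hh c hc with rfl | rfl
      · left; rw [happ, happ]; simp
      · right; rw [happ, happ]; simp
    · simp only [e, hadjl]
      congr 2; ring
  right
  let K : Subalgebra F (Matrix ι ι F) :=
    { carrier := {x | ∃ a b : F, x = a • 1 + b • J}
      mul_mem' := by
        rintro _ _ ⟨a, b, rfl⟩ ⟨a', b', rfl⟩
        exact ⟨_, _, hmul a b a' b'⟩
      one_mem' := ⟨1, 0, by simp⟩
      add_mem' := by
        rintro _ _ ⟨a, b, rfl⟩ ⟨a', b', rfl⟩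
        exact ⟨a + a', b + b', by module⟩
      zero_mem' := ⟨0, 0, by simp⟩
      algebraMap_mem' := fun c => ⟨c, 0, by rw [Algebra.algebraMap_eq_smul_one]; simp⟩ }
  have hJK : J ∈ K := ⟨0, 1, by simp⟩
  have hzero : ∀ a b : F, a • (1 : Matrix ι ι F) + b • J = 0 → a = 0 ∧ b = 0 := by
    intro a b h
    by_cases hb : b = 0
    · subst hb
      simp only [zero_smul, add_zero, smul_eq_zero, one_ne_zero, or_false] at h
      exact ⟨h, rfl⟩
    · exfalso
      refine hnsc (-(a / b)) ?_
      have h1 : b • J = -(a • (1 : Matrix ι ι F)) := eq_neg_of_add_eq_zero_right h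
      have h2' := congrArg (fun M => b⁻¹ • M) h1
      simp only [smul_smul, inv_mul_cancel₀ hb, one_smul, smul_neg, neg_smul] at h2' ⊢
      rw [h2', div_eq_inv_mul]
  have hK : Cfsg.Geo.IsFieldSubalgebra 2 K := by
    refine ⟨?_, ?_, ?_⟩
    · rintro _ ⟨a, b, rfl⟩ _ ⟨a', b', rfl⟩
      rw [hmul, hmul]; congr 2 <;> ring
    · rintro _ ⟨a, b, rfl⟩ h0
      have hn : a * a - b * b * δ ≠ 0 := by
        intro h
        by_cases hb : b = 0
        · subst hb
          have ha : a = 0 := by
            have : a * a = 0 := by linear_combination h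
            exact mul_self_eq_zero.1 this
          exact h0 (by subst ha; simp)
        · exact hsq ⟨a / b, by field_simp; linear_combination -h⟩
      refine ⟨_, ⟨a / (a * a - b * b * δ), -b / (a * a - b * b * δ), rfl⟩, ?_⟩
      rw [hmul, show a * (-b / (a * a - b * b * δ)) + b * (a / (a * a - b * b * δ)) = 0 by ring,
        zero_smul, add_zero,
        show a * (a / (a * a - b * b * δ)) + b * (-b / (a * a - b * b * δ)) * δ = 1 from ?_, one_smul]
      have he : a * (a / (a * a - b * b * δ)) + b * (-b / (a * a - b * b * δ)) * δ =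
          (a * a - b * b * δ) / (a * a - b * b * δ) := by ring
      rw [he, div_self hn]
    · let L : (Fin 2 → F) →ₗ[F] Matrix ι ι F :=
        { toFun := fun v => v 0 • 1 + v 1 • J
          map_add' := fun v w => by simp only [Pi.add_apply]; module
          map_smul' := fun c v => by simp only [Pi.smul_apply, smul_eq_mul, RingHom.id_apply]; module }
      have hinj : Function.Injective L := by
        rw [injective_iff_map_eq_zero]
        intro v hv
        obtain ⟨h1, h3⟩ := hzero _ _ hv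
        funext i; fin_cases i <;> assumption
      have hr : LinearMap.range L = Subalgebra.toSubmodule K := by
        ext x
        constructor
        · rintro ⟨v, rfl⟩; exact ⟨v 0, v 1, rfl⟩
        · rintro ⟨a, b, rfl⟩; exact ⟨![a, b], rfl⟩
      have h1 := LinearMap.finrank_range_of_inj hinj
      rw [hr, Subalgebra.finrank_toSubmodule, Module.finrank_fintype_fun_eq_card, Fintype.card_fin] at h1
      exact h1
  refine ⟨K, hK, ?_, fun hsa => ?_, fun h hh => mem_subalgebraNormalizer_of ?_, fun k hk => hk, hJK⟩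
  · rintro _ ⟨a, b, rfl⟩
    exact ⟨_, ⟨a, -b, rfl⟩, fun u v => by rw [hf.adj_spec, hadjl]⟩
  · have h1 : J = adj (RingEquiv.refl F) f J := hf.adj_unique fun u v => hsa J hJK u v
    rw [hJ, eq_neg_iff_add_eq_zero, ← two_smul F, smul_eq_zero] at h1
    exact h1.elim h2 hJ0
  · rintro _ ⟨a, b, rfl⟩
    obtain ⟨c, -, hc⟩ := hconjl h hh a b
    exact ⟨_, _, hc⟩

end CfsgLib.AschbacherForms
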