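import Cfsg.Agent.AschbacherForms.Twelve

/-!
The two factors of a tensor decomposition of a form.
-/

set_option autoImplicit false
set_option linter.unusedSectionVars false
set_option linter.style.haveILetI false

namespace CfsgLib.AschbacherForms

open Matrix CfsgLib.Aschbacher
open scoped Kronecker

variable {ι : Type} [Fintype ι] [DecidableEq ι] {F : Type*} [Field F]

/-- Equal Kronecker products have proportional factors. -/
theorem kronecker_eq_kronecker {k d : ℕ} {A S : Matrix (Fin k) (Fin k) F}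
    {B T : Matrix (Fin d) (Fin d) F} (hS : S ≠ 0) (hT : T ≠ 0) (h : A ⊗ₖ B = S ⊗ₖ T) :
    ∃ μ : F, μ ≠ 0 ∧ A = μ • S ∧ B = μ⁻¹ • T := by
  obtain ⟨i₀, j₀, hS0⟩ : ∃ i j, S i j ≠ 0 := by
    by_contra hn; push Not at hn; exact hS (Matrix.ext hn)
  obtain ⟨u₀, v₀, hT0⟩ : ∃ i j, T i j ≠ 0 := by
    by_contra hn; push Not at hn; exact hT (Matrix.ext hn)
  have key : ∀ i j u v, A i j * B u v = S i j * T u v := fun i j u v =>
    congrFun (congrFun h (i, u)) (j, v)
  have h00 := key i₀ j₀ u₀ v₀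
  have hB0 : B u₀ v₀ ≠ 0 := fun h0 => mul_ne_zero hS0 hT0 (by rw [← h00, h0, mul_zero])
  refine ⟨T u₀ v₀ / B u₀ v₀, div_ne_zero hT0 hB0, ?_, ?_⟩
  · ext i j
    have h1 := key i j u₀ v₀
    rw [Matrix.smul_apply, smul_eq_mul]
    field_simp
    linear_combination h1
  · ext u v
    have h1 := key i₀ j₀ u v
    have hA0 : A i₀ j₀ ≠ 0 := fun h0 => mul_ne_zero hS0 hT0 (by rw [← h00, h0, zero_mul])
    rw [Matrix.smul_apply, smul_eq_mul, inv_div]
    field_simp
    apply mul_left_cancel₀ hA0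
    linear_combination T u₀ v₀ * h1 - T u v * h00

variable {σ : F ≃+* F} {ε : F} {f : (ι → F) → (ι → F) → F} {k d : ℕ} {e : ι ≃ Fin k × Fin d}
  {P : GL ι F} {S : Matrix (Fin k) (Fin k) F} {T : Matrix (Fin d) (Fin d) F}

theorem gram_coordForm (hform : ∀ x y : Fin k × Fin d → F,
      f (mat P *ᵥ (x ∘ e)) (mat P *ᵥ (y ∘ e)) = Cfsg.Geo.formOfGram σ (S ⊗ₖ T) x y) :
    Cfsg.Geo.gramMatrix (coordForm f e P) = S ⊗ₖ T := by
  ext a b
  show f (coords e P (Pi.single a 1)) (coords e P (Pi.single b 1)) = _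
  rw [coords_apply, coords_apply, hform, formOfGram_eq,
    show (fun i => σ ((Pi.single b (1 : F) : Fin k × Fin d → F) i)) = Pi.single b 1 from
      funext fun i => by by_cases h : i = b <;> simp [h],
    Matrix.mulVec_single_one, single_dotProduct, one_mul]
  rfl

/-- The factors of a reflexive form are reflexive. -/
theorem factors_reflexive [Nonempty ι] (hf : IsReflexive σ ε f) (hS : S ≠ 0) (hT : T ≠ 0)
    (hform : ∀ x y : Fin k × Fin d → F,
      f (mat P *ᵥ (x ∘ e)) (mat P *ᵥ (y ∘ e)) = Cfsg.Geo.formOfGram σ (S ⊗ₖ T) x y) :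
    ∃ a b : F, a ≠ 0 ∧ Sᵀ.map σ = a • S ∧ Tᵀ.map σ = b • T ∧ a * b * ε = 1 := by
  have hf' := isReflexive_coordForm hf e P
  have hε : ε ≠ 0 := left_ne_zero_of_mul_eq_one hf.eps_mul
  have h : (Sᵀ.map σ) ⊗ₖ (ε • Tᵀ.map σ) = S ⊗ₖ T := by
    rw [← gram_coordForm hform]
    ext ⟨a₁, a₂⟩ ⟨b₁, b₂⟩
    show σ (S b₁ a₁) * (ε * σ (T b₂ a₂)) = coordForm f e P _ _
    rw [hf'.refl (Pi.single (b₁, b₂) 1) (Pi.single (a₁, a₂) 1)]
    have h1 := congrFun (congrFun (gram_coordForm hform) (b₁, b₂)) (a₁, a₂)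
    rw [Cfsg.Geo.gramMatrix, Matrix.kroneckerMap_apply] at h1
    rw [h1, map_mul]
    ring
  obtain ⟨μ, hμ, h1, h2⟩ := kronecker_eq_kronecker hS hT h
  refine ⟨μ, ε⁻¹ * μ⁻¹, hμ, h1, ?_, by field_simp⟩
  have h3 := congrArg (fun M => ε⁻¹ • M) h2
  simpa [smul_smul, inv_mul_cancel₀ hε] using h3

/-- An isometry stabilising a tensor decomposition of the form induces similitudes of the factors. -/
theorem factors_similitude (hf : IsReflexive σ ε f) (hS : S ≠ 0) (hT : T ≠ 0)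
    (hform : ∀ x y : Fin k × Fin d → F,
      f (mat P *ᵥ (x ∘ e)) (mat P *ᵥ (y ∘ e)) = Cfsg.Geo.formOfGram σ (S ⊗ₖ T) x y)
    {g : GL ι F} (hg : ∀ u v, f (mat g *ᵥ u) (mat g *ᵥ v) = f u v)
    {a : Matrix (Fin k) (Fin k) F} {b : Matrix (Fin d) (Fin d) F}
    (hab : mat g = tensorEquiv e P (a ⊗ₖ b)) :
    ∃ μ : F, μ ≠ 0 ∧ aᵀ * S * a.map σ = μ • S ∧ bᵀ * T * b.map σ = μ⁻¹ • T := by
  refine kronecker_eq_kronecker hS hT ?_
  have h1 := (isReflexive_coordForm hf e P).sesq.gram_of_eq (c := (1 : F)) (g := a ⊗ₖ b) fun u v => by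
    simp only [coordForm, one_mul]
    rw [← tensorEquiv_mulVec, ← tensorEquiv_mulVec, ← hab, hg]
  rw [one_smul, gram_coordForm hform] at h1
  refine Eq.trans ?_ h1
  rw [Matrix.mul_kronecker_mul, Matrix.mul_kronecker_mul, ← Matrix.kroneckerMap_transpose]
  congr 1
  ext ⟨i, j⟩ ⟨i', j'⟩
  simp [Matrix.kroneckerMap_apply]

/-- The first factor of a tensor decomposition of an irreducible group is irreducible. -/
theorem left_factor_irreducible {H : Subgroup (GL ι F)} (hd : 0 < d)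
    (hirr : Cfsg.Geo.ActsIrreducibly (Cfsg.Geo.matrixSet H))
    (hle : H ≤ Cfsg.Geo.tensorProductSubgroup k d e P) (W : Submodule F (Fin k → F))
    (hW : ∀ h ∈ H, ∀ (a : GL (Fin k) F) (b : GL (Fin d) F),
      mat h = tensorEquiv e P (mat a ⊗ₖ mat b) → ∀ w ∈ W, mat a *ᵥ w ∈ W) : W = ⊥ ∨ W = ⊤ := by
  let col : Fin d → ((Fin k × Fin d → F) →ₗ[F] (Fin k → F)) := fun j =>
    { toFun := fun x i => x (i, j), map_add' := fun _ _ => rfl, map_smul' := fun _ _ => rfl }
  let U₀ : Submodule F (Fin k × Fin d → F) := ⨅ j, W.comap (col j)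
  have hU₀ : ∀ x, x ∈ U₀ ↔ ∀ j, (fun i => x (i, j)) ∈ W := fun x => by simp [U₀, col]
  let U := U₀.map (coords e P).toLinearMap
  have hU : U = ⊥ ∨ U = ⊤ := by
    refine (actsIrreducibly_iff.1 hirr) U fun h hh => mem_subspaceStabilizer_iff.2 ?_
    rintro _ ⟨x, hx, rfl⟩
    obtain ⟨a, b, hab⟩ := exists_of_mem_tensorProductSubgroup (hle hh)
    refine ⟨(mat a ⊗ₖ mat b) *ᵥ x, ?_, ?_⟩
    · rw [SetLike.mem_coe, hU₀] at hx
      rw [SetLike.mem_coe, hU₀]
      intro j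
      have he : (fun i => ((mat a ⊗ₖ mat b) *ᵥ x) (i, j)) =
          ∑ l, mat b j l • (mat a *ᵥ fun i => x (i, l)) := by
        funext i
        simp only [Matrix.mulVec, dotProduct, Matrix.kroneckerMap_apply, Finset.sum_apply, Pi.smul_apply,
          smul_eq_mul, Fintype.sum_prod_type, Finset.mul_sum]
        rw [Finset.sum_comm]
        exact Finset.sum_congr rfl fun l _ => Finset.sum_congr rfl fun i' _ => by ring
      rw [he]
      exact Submodule.sum_mem _ fun l _ => W.smul_mem _ (hW h hh a b hab _ (hx l))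
    · show coords e P _ = mat h *ᵥ coords e P x
      rw [hab, tensorEquiv_mulVec]
  let j₀ : Fin d := ⟨0, hd⟩
  rcases hU with h | h
  · left
    rw [eq_bot_iff]
    intro w hw
    let x : Fin k × Fin d → F := fun a => if a.2 = j₀ then w a.1 else 0
    have hx : x ∈ U₀ := by
      rw [hU₀]
      intro j
      by_cases hj : j = j₀
      · simpa [x, hj] using hw
      · simp only [x, hj, if_false]; exact W.zero_mem
    have h1 : coords e P x = 0 := (Submodule.mem_bot F).1 (h ▸ Submodule.mem_map_of_mem hx)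
    rw [LinearEquiv.map_eq_zero_iff] at h1
    rw [Submodule.mem_bot]
    funext i
    simpa [x] using congrFun h1 (i, j₀)
  · right
    rw [eq_top_iff]
    intro w _
    let x : Fin k × Fin d → F := fun a => w a.1
    obtain ⟨y, hy, hyx⟩ := (h ▸ Submodule.mem_top : coords e P x ∈ U)
    obtain rfl := (coords e P).injective hyx
    exact (hU₀ _).1 hy j₀

/-- In characteristic two the first factor of a symmetric form is alternating. -/
theorem left_factor_alternating [Finite F] [Nonempty ι]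
    {f : (ι → F) → (ι → F) → F} {ε : F} (hf : IsReflexive (RingEquiv.refl F) ε f)
    {H : Subgroup (GL ι F)} (hfix : Cfsg.Geo.FixesForm (Cfsg.Geo.matrixSet H) f)
    (hirr : Cfsg.Geo.ActsIrreducibly (Cfsg.Geo.matrixSet H)) (h2 : (2 : F) = 0) (hk : 2 ≤ k) (hd : 0 < d)
    (hle : H ≤ Cfsg.Geo.tensorProductSubgroup k d e P) (hS : S ≠ 0) (hT : T ≠ 0)
    (hform : ∀ x y : Fin k × Fin d → F,
      f (mat P *ᵥ (x ∘ e)) (mat P *ᵥ (y ∘ e)) = Cfsg.Geo.formOfGram (RingEquiv.refl F) (S ⊗ₖ T) x y) :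
    ∀ i, S i i = 0 := by
  haveI : CharP F 2 := CharTwo.of_one_ne_zero_of_two_eq_zero one_ne_zero h2
  obtain ⟨a, b, -, hsym, -, -⟩ := factors_reflexive hf hS hT hform
  have hsym' : ∀ i j, S j i = S i j := by
    have h1 : ∀ i j, S j i = a * S i j := fun i j => congrFun (congrFun hsym i) j
    obtain ⟨i₀, j₀, h0⟩ : ∃ i j, S i j ≠ 0 := by
      by_contra hn; push Not at hn; exact hS (Matrix.ext hn)
    have ha : (a + 1) ^ 2 = 0 := by
      have h3 : (a * a - 1) * S i₀ j₀ = 0 := by linear_combination a * (h1 i₀ j₀) * (-1) - h1 j₀ i₀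
      have h4 := (mul_eq_zero.1 h3).resolve_right h0
      linear_combination h4 + (a + 1) * h2
    have ha1 : a = 1 := by
      have := eq_zero_of_pow_eq_zero ha
      linear_combination this - h2
    intro i j
    rw [h1, ha1, one_mul]
  have hq : ∀ x y : Fin k → F, (x + y) ⬝ᵥ (S *ᵥ (x + y)) = x ⬝ᵥ (S *ᵥ x) + y ⬝ᵥ (S *ᵥ y) := by
    intro x y
    have hxy : y ⬝ᵥ (S *ᵥ x) = x ⬝ᵥ (S *ᵥ y) := by
      rw [Matrix.dotProduct_mulVec, ← Matrix.mulVec_transpose, dotProduct_comm,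
        show Sᵀ = S from Matrix.ext hsym']
    rw [Matrix.mulVec_add, add_dotProduct, dotProduct_add, dotProduct_add, hxy]
    linear_combination (x ⬝ᵥ (S *ᵥ y)) * h2
  let W : Submodule F (Fin k → F) :=
    { carrier := {x | x ⬝ᵥ (S *ᵥ x) = 0}
      add_mem' := fun {x y} hx hy => by
        show (x + y) ⬝ᵥ (S *ᵥ (x + y)) = 0
        rw [hq, hx, hy, add_zero]
      zero_mem' := by simp
      smul_mem' := fun c x hx => by
        show (c • x) ⬝ᵥ (S *ᵥ (c • x)) = 0
        rw [Matrix.mulVec_smul, smul_dotProduct, dotProduct_smul, hx, smul_zero, smul_zero] }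
  have hWinv : W = ⊥ ∨ W = ⊤ := by
    refine left_factor_irreducible hd hirr hle W fun h hh a' b' hab w hw => ?_
    obtain ⟨μ, -, h1, -⟩ := factors_similitude hf hS hT hform (fun u v => fixesForm_iff.1 hfix h hh u v) hab
    rw [show (mat a').map (RingEquiv.refl F) = mat a' from Matrix.ext fun _ _ => rfl] at h1
    show (mat a' *ᵥ w) ⬝ᵥ (S *ᵥ (mat a' *ᵥ w)) = 0
    have hw' : w ⬝ᵥ (S *ᵥ w) = 0 := hw
    have e1 : (mat a' *ᵥ w) ⬝ᵥ (S *ᵥ (mat a' *ᵥ w)) = w ⬝ᵥ (((mat a')ᵀ * S * mat a') *ᵥ w) := by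
      rw [Matrix.mulVec_mulVec, mul_assoc, ← Matrix.mulVec_mulVec w (mat a')ᵀ,
        Matrix.dotProduct_mulVec w (mat a')ᵀ, Matrix.vecMul_transpose]
    rw [e1, h1, Matrix.smul_mulVec, dotProduct_smul, hw', smul_zero]
  have hval : ∀ (i : Fin k) (c : F),
      (Pi.single i c : Fin k → F) ⬝ᵥ (S *ᵥ Pi.single i c) = c * c * S i i := by
    intro i c
    simp [mul_comm, mul_left_comm]
  rcases hWinv with h | h
  · exfalso
    let i₀ : Fin k := ⟨0, by omega⟩
    let i₁ : Fin k := ⟨1, by omega⟩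
    have hne : i₀ ≠ i₁ := fun h => by simp [i₀, i₁] at h
    have key : ∀ x : Fin k → F, x ⬝ᵥ (S *ᵥ x) = 0 → x = 0 := fun x hx =>
      (Submodule.mem_bot F).1 (h ▸ (hx : x ∈ W))
    by_cases h1 : S i₁ i₁ = 0
    · have := congrFun (key (Pi.single i₁ 1) (by rw [hval, h1, mul_zero])) i₁
      simp at this
    · obtain ⟨c, hc⟩ := FiniteField.isSquare_of_char_two (ringChar.eq F 2) (S i₀ i₀ / S i₁ i₁)
      have := congrFun (key (Pi.single i₀ 1 + Pi.single i₁ c) (by
        rw [hq, hval, hval, ← hc, div_mul_cancel₀ _ h1]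
        linear_combination (S i₀ i₀) * h2)) i₀
      simp [hne] at this
  · intro i
    have h1 : Pi.single i (1 : F) ∈ W := h ▸ Submodule.mem_top
    have h2' : (Pi.single i (1 : F) : Fin k → F) ⬝ᵥ (S *ᵥ Pi.single i 1) = 0 := h1
    rwa [hval, mul_one, one_mul] at h2'

end CfsgLib.AschbacherForms
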