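import Cfsg.Agent.AschbacherForms.Idempotent

/-!
A field subalgebra of the matrix algebra with a prime dividing its degree contains the fixed field of the
corresponding power of Frobenius, which is preserved by everything preserving the big field.
-/

set_option autoImplicit false
set_option linter.unusedSectionVars false
set_option linter.style.haveILetI false

namespace CfsgLib.AschbacherForms

open Matrix CfsgLib.Aschbacher

variable {ι : Type} [Fintype ι] [DecidableEq ι] {F : Type*} [Field F] [Fintype F]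

theorem frobenius_pow_apply {D : Type*} [Field D] [Algebra F D] (r : ℕ) (x : D) :
    ((FiniteField.frobeniusAlgHom F D) ^ r) x = x ^ Fintype.card F ^ r := by
  rw [AlgHom.coe_pow, FiniteField.coe_frobeniusAlgHom, pow_iterate]

theorem finrank_frobenius_fixed {D : Type*} [Field D] [Algebra F D] [Finite D] {r : ℕ}
    (hrd : r ∣ Module.finrank F D) :
    Module.finrank F (AlgHom.equalizer ((FiniteField.frobeniusAlgHom F D) ^ r) (AlgHom.id F D)) = r := by
  classical
  haveI : Fintype D := Fintype.ofFinite _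
  haveI : Module.Finite F D := Module.Finite.of_finite
  set Fr := AlgHom.equalizer ((FiniteField.frobeniusAlgHom F D) ^ r) (AlgHom.id F D)
  have hmem : ∀ x : D, x ∈ Fr ↔ x ^ Fintype.card F ^ r = x := fun x => by
    show ((FiniteField.frobeniusAlgHom F D) ^ r) x = x ↔ _
    rw [frobenius_pow_apply]
  obtain ⟨m, hm'⟩ := hrd
  have hcardD : Fintype.card D = Fintype.card F ^ (r * m) := by
    rw [← hm', Module.card_eq_pow_finrank (K := F)]
  have hq : 1 ≤ Fintype.card F ^ r := Nat.one_le_pow _ _ Fintype.card_pos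
  have hker : Nat.card (powMonoidHom (Fintype.card F ^ r - 1) : Dˣ →* Dˣ).ker =
      Fintype.card F ^ r - 1 := by
    rw [IsCyclic.card_powMonoidHom_ker, Nat.card_eq_fintype_card, Fintype.card_units, hcardD,
      Nat.pow_sub_one_gcd_pow_sub_one, Nat.gcd_eq_right (dvd_mul_right r m)]
  let e' : Option (powMonoidHom (Fintype.card F ^ r - 1) : Dˣ →* Dˣ).ker ≃ Fr :=
    Equiv.ofBijective (fun o => o.elim 0 fun u => ⟨(u.1 : D), by
      rw [hmem]
      have h1 : u.1 ^ (Fintype.card F ^ r - 1) = 1 := u.2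
      have h2 : (u.1 : D) ^ (Fintype.card F ^ r - 1) = 1 := by
        rw [← Units.val_pow_eq_pow_val, h1, Units.val_one]
      calc (u.1 : D) ^ Fintype.card F ^ r
          = (u.1 : D) ^ (Fintype.card F ^ r - 1) * u.1 := by rw [← pow_succ, Nat.sub_add_cancel hq]
        _ = u.1 := by rw [h2, one_mul]⟩) ⟨by
      intro a b hab
      match a, b with
      | none, none => rfl
      | none, some u => exact absurd (congrArg Subtype.val hab).symm u.1.ne_zero
      | some u, none => exact absurd (congrArg Subtype.val hab) u.1.ne_zero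
      | some u, some v =>
        exact congrArg some (Subtype.ext (Units.ext (congrArg Subtype.val hab))), by
      intro x
      by_cases hx : x.1 = 0
      · exact ⟨none, Subtype.ext hx.symm⟩
      · refine ⟨some ⟨Units.mk0 _ hx, Units.ext ?_⟩, rfl⟩
        have h1 := (hmem x.1).1 x.2
        rw [← Nat.sub_add_cancel hq, pow_succ] at h1
        exact mul_right_cancel₀ hx (by rw [Units.val_one, one_mul]; exact h1)⟩
  have hcardFr : Nat.card Fr = Fintype.card F ^ r := by
    rw [← Nat.card_congr e', Finite.card_option, hker, Nat.sub_add_cancel hq]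
  have h1 := Module.natCard_eq_pow_finrank (K := F) (V := Fr)
  rw [hcardFr, Nat.card_eq_fintype_card] at h1
  exact (Nat.pow_right_injective Fintype.one_lt_card h1).symm

/-- A field subalgebra of non-trivial degree contains a subalgebra of prime degree cut out by a power map. -/
theorem exists_prime_subfield [Nonempty ι] {Z : Subalgebra F (Matrix ι ι F)}
    (hc : ∀ x ∈ Z, ∀ y ∈ Z, x * y = y * x) (hinv : ∀ x ∈ Z, x ≠ 0 → ∃ y ∈ Z, x * y = 1)
    (hne : Module.finrank F Z ≠ 1) :
    ∃ (r : ℕ) (K : Subalgebra F (Matrix ι ι F)), r.Prime ∧ Cfsg.Geo.IsFieldSubalgebra r K ∧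
      ∀ x, x ∈ K ↔ x ∈ Z ∧ x ^ Fintype.card F ^ r = x := by
  classical
  obtain ⟨r, hr, hrd⟩ := Nat.exists_prime_and_dvd hne
  letI : CommRing Z := { (inferInstance : Ring Z) with mul_comm := fun a b => Subtype.ext (hc _ a.2 _ b.2) }
  have hfield : IsField Z :=
    { exists_pair_ne := ⟨0, 1, fun h => zero_ne_one (congrArg Subtype.val h)⟩
      mul_comm := fun a b => Subtype.ext (hc _ a.2 _ b.2)
      mul_inv_cancel := fun {a} ha => by
        obtain ⟨y, hy, hay⟩ := hinv _ a.2 (fun h => ha (Subtype.ext h))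
        exact ⟨⟨y, hy⟩, Subtype.ext hay⟩ }
  letI : Field Z := hfield.toField
  let Fr := AlgHom.equalizer ((FiniteField.frobeniusAlgHom F Z) ^ r) (AlgHom.id F Z)
  have hmem : ∀ x, x ∈ Fr.map Z.val ↔ x ∈ Z ∧ x ^ Fintype.card F ^ r = x := by
    intro x
    constructor
    · rintro ⟨y, hy, rfl⟩
      refine ⟨y.2, ?_⟩
      have h1 : y ^ Fintype.card F ^ r = y := by
        rw [← frobenius_pow_apply r y]; exact hy
      have h2 := congrArg Subtype.val h1
      rwa [Subalgebra.coe_pow] at h2
    · rintro ⟨hx, hxr⟩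
      refine ⟨⟨x, hx⟩, ?_, rfl⟩
      show ((FiniteField.frobeniusAlgHom F Z) ^ r) ⟨x, hx⟩ = ⟨x, hx⟩
      rw [frobenius_pow_apply]
      exact Subtype.ext (by rw [Subalgebra.coe_pow]; exact hxr)
  refine ⟨r, Fr.map Z.val, hr, ⟨?_, ?_, ?_⟩, hmem⟩
  · rintro _ ⟨x, -, rfl⟩ _ ⟨y, -, rfl⟩
    exact hc _ x.2 _ y.2
  · rintro _ ⟨x, hx, rfl⟩ h0
    have hx0 : x ≠ 0 := fun h => h0 (by subst h; exact map_zero Z.val)
    refine ⟨Z.val x⁻¹, ⟨x⁻¹, ?_, rfl⟩, ?_⟩
    · show ((FiniteField.frobeniusAlgHom F Z) ^ r) x⁻¹ = x⁻¹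
      rw [map_inv₀]; exact congrArg Inv.inv hx
    · show Z.val x * Z.val x⁻¹ = 1
      rw [← map_mul, mul_inv_cancel₀ hx0, map_one]
  · rw [← finrank_frobenius_fixed (F := F) (D := Z) hrd]
    exact (Subalgebra.equivMapOfInjective Fr Z.val Subtype.val_injective).toLinearEquiv.finrank_eq.symm

end CfsgLib.AschbacherForms
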