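import Cfsg.Agent.AschbacherForms.Adjoint
import Cfsg.Agent.Aschbacher.AlgebraReduction

/-!
Orthogonal idempotents permuted by an irreducible group, and the minimal idempotents of a commutative
algebra of matrices normalised by such a group.
-/

set_option autoImplicit false
set_option linter.unusedSectionVars false
set_option linter.style.haveILetI false

namespace CfsgLib.AschbacherForms

open Matrix CfsgLib.Aschbacher

variable {ι : Type} [Fintype ι] [DecidableEq ι] {F : Type*} [Field F]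

/-- The image of a matrix. -/
def imOf (e : Matrix ι ι F) : Submodule F (ι → F) := LinearMap.range (Matrix.toLin' e)

theorem mem_imOf_iff {e : Matrix ι ι F} (he : e * e = e) {v : ι → F} :
    v ∈ imOf e ↔ e *ᵥ v = v :=
  ⟨fun ⟨w, hw⟩ => by rw [← hw, Matrix.toLin'_apply, Matrix.mulVec_mulVec, he],
    fun h => ⟨v, by rw [Matrix.toLin'_apply, h]⟩⟩

theorem mulVec_mem_imOf (e : Matrix ι ι F) (v : ι → F) : e *ᵥ v ∈ imOf e :=
  ⟨v, Matrix.toLin'_apply _ _⟩

theorem imOf_eq_bot {e : Matrix ι ι F} (h : imOf e = ⊥) : e = 0 := by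
  rw [imOf, LinearMap.range_eq_bot, LinearEquiv.map_eq_zero_iff] at h
  exact h

theorem map_imOf (g : GL ι F) (e : Matrix ι ι F) :
    (imOf e).map (Matrix.toLin' (mat g)) = imOf (mat g * e * mat g⁻¹) := by
  ext v
  constructor
  · rintro ⟨w, ⟨u, rfl⟩, rfl⟩
    refine ⟨mat g *ᵥ u, ?_⟩
    simp only [Matrix.toLin'_apply]
    rw [← Matrix.mulVec_mulVec (mat g *ᵥ u) (mat g * e), inv_mulVec_mulVec, Matrix.mulVec_mulVec]
  · rintro ⟨u, rfl⟩
    refine ⟨e *ᵥ (mat g⁻¹ *ᵥ u), mulVec_mem_imOf _ _, ?_⟩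
    simp only [Matrix.toLin'_apply]
    rw [Matrix.mulVec_mulVec, Matrix.mulVec_mulVec, mul_assoc]

/-- Orthogonal idempotents summing to one which are permuted by a group. -/
structure IsFamily (H : Subgroup (GL ι F)) (E : Finset (Matrix ι ι F)) : Prop where
  idem : ∀ e ∈ E, e * e = e
  ne_zero : ∀ e ∈ E, e ≠ 0
  orth : ∀ e ∈ E, ∀ e' ∈ E, e ≠ e' → e * e' = 0
  sum_eq : ∑ e ∈ E, e = 1
  perm : ∀ h ∈ H, ∀ e ∈ E, mat h * e * mat h⁻¹ ∈ E

theorem IsFamily.transitive [DecidableEq (Matrix ι ι F)] {H : Subgroup (GL ι F)}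
    {E : Finset (Matrix ι ι F)} (hE : IsFamily H E)
    (hirr : Cfsg.Geo.ActsIrreducibly (Cfsg.Geo.matrixSet H))
    {e : Matrix ι ι F} (he : e ∈ E) {e' : Matrix ι ι F} (he' : e' ∈ E) :
    ∃ h ∈ H, mat h * e * mat h⁻¹ = e' := by
  by_contra hno
  push Not at hno
  let O : Submodule F (ι → F) := ⨆ h : H, imOf (mat h.1 * e * mat h.1⁻¹)
  have hO : O = ⊤ := by
    refine ((actsIrreducibly_iff.1 hirr) O fun g hg => ?_).resolve_left fun h0 =>
      hE.ne_zero e he (imOf_eq_bot ?_)
    · rw [mem_subspaceStabilizer_iff, ← map_le_iff, Submodule.map_iSup]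
      refine iSup_le fun h => le_iSup_of_le ⟨g * h.1, H.mul_mem hg h.2⟩ (le_of_eq ?_)
      rw [map_imOf]
      simp [mat, mul_assoc]
    · refine le_bot_iff.1 (le_trans ?_ h0.le)
      refine le_trans (le_of_eq ?_) (le_iSup _ (1 : H))
      simp [mat]
  apply hE.ne_zero e' he'
  apply Matrix.toLin'.injective
  rw [map_zero, ← LinearMap.ker_eq_top, eq_top_iff, ← hO]
  refine iSup_le fun h => ?_
  rintro _ ⟨u, rfl⟩
  rw [LinearMap.mem_ker, Matrix.toLin'_apply, Matrix.toLin'_apply, Matrix.mulVec_mulVec,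
    hE.orth e' he' _ (hE.perm _ h.2 e he) (fun h' => hno h.1 h.2 h'.symm), Matrix.zero_mulVec]

/-- A permuted family of orthogonal idempotents gives a stabilised decomposition. -/
theorem IsFamily.exists_decomposition {H : Subgroup (GL ι F)} {E : Finset (Matrix ι ι F)}
    (hE : IsFamily H E) (hirr : Cfsg.Geo.ActsIrreducibly (Cfsg.Geo.matrixSet H))
    (h2 : 2 ≤ E.card) :
    ∃ (en : Fin E.card ≃ E) (m : ℕ), Cfsg.Geo.IsMDecomposition m (fun i => imOf (en i).1) ∧
      E.card * m = Fintype.card ι ∧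
      H ≤ Cfsg.Geo.decompositionStabilizer (fun i => imOf (en i).1) := by
  classical
  let en : Fin E.card ≃ E := E.equivFin.symm
  let D : Fin E.card → Submodule F (ι → F) := fun i => imOf (en i).1
  have hne : ∀ i, D i ≠ ⊥ := fun i h => hE.ne_zero _ (en i).2 (imOf_eq_bot h)
  have hmap : ∀ (i : Fin E.card) {h : GL ι F}, h ∈ H → ∃ j, (D i).map (Matrix.toLin' (mat h)) = D j := by
    intro i h hh
    refine ⟨en.symm ⟨_, hE.perm h hh _ (en i).2⟩, ?_⟩
    show (imOf (en i).1).map _ = imOf (en (en.symm _)).1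
    rw [map_imOf, Equiv.apply_symm_apply]
  have htop : iSup D = ⊤ := eq_top_iff.2 fun v _ => by
    have h1 : ∑ i, (en i).1 *ᵥ v = v := by
      rw [← Matrix.sum_mulVec, en.sum_comp (fun x : E => x.1), Finset.sum_coe_sort E (fun e => e), hE.sum_eq, Matrix.one_mulVec]
    rw [← h1]
    exact Submodule.sum_mem _ fun i _ => Submodule.mem_iSup_of_mem i (mulVec_mem_imOf _ _)
  have hindep : iSupIndep D := by
    intro i
    rw [Submodule.disjoint_def]
    intro v hv hv'
    have h1 : (⨆ (j : Fin E.card) (_ : j ≠ i), D j) ≤ LinearMap.ker (Matrix.toLin' (en i).1) := by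
      refine iSup₂_le fun j hj => ?_
      rintro _ ⟨w, rfl⟩
      rw [LinearMap.mem_ker, Matrix.toLin'_apply, Matrix.toLin'_apply, Matrix.mulVec_mulVec,
        hE.orth _ (en i).2 _ (en j).2 (fun h => hj (en.injective (Subtype.ext h)).symm),
        Matrix.zero_mulVec]
    have h2' := h1 hv'
    rw [LinearMap.mem_ker, Matrix.toLin'_apply, (mem_imOf_iff (hE.idem _ (en i).2)).1 hv] at h2'
    exact h2'
  let i₀ : Fin E.card := ⟨0, by omega⟩
  have hrank : ∀ i, Module.finrank F (D i) = Module.finrank F (D i₀) := by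
    intro i
    obtain ⟨h, hh, he⟩ := hE.transitive hirr (en i₀).2 (en i).2
    show Module.finrank F (imOf (en i).1) = _
    rw [← he, ← map_imOf, finrank_map_gl]
  have hdec : Cfsg.Geo.IsMDecomposition (Module.finrank F (D i₀)) D :=
    ⟨h2, Nat.pos_of_ne_zero fun h => hne i₀ (Submodule.finrank_eq_zero.1 h), hrank, hindep, htop⟩
  refine ⟨en, Module.finrank F (D i₀), hdec, ?_, fun h hh => mem_decompositionStabilizer_of hdec fun i => ?_⟩
  · have := algebra_reduction.finrank_eq_sum_of_indep' hindep htop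
    rw [Finset.sum_congr rfl fun i _ => hrank i, Finset.sum_const, Finset.card_univ, Fintype.card_fin,
      smul_eq_mul] at this
    exact this
  · obtain ⟨j, hj⟩ := hmap i hh
    exact ⟨j, map_le_iff.1 hj.le⟩

/-- An algebra normalised by an irreducible group which is commutative is regular. -/
theorem exists_regular [Finite F] [Nonempty ι] {H : Subgroup (GL ι F)}
    (hirr : Cfsg.Geo.ActsIrreducibly (Cfsg.Geo.matrixSet H)) {Z : Subalgebra F (Matrix ι ι F)}
    (hZ : H ≤ Cfsg.Geo.subalgebraNormalizer Z) (hc : ∀ x ∈ Z, ∀ y ∈ Z, x * y = y * x)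
    {x : Matrix ι ι F} (hx : x ∈ Z) : ∃ y ∈ Z, y * x * x = x := by
  haveI := isSemisimpleRing_of_normalized hirr hZ
  let x' : Z := ⟨x, hx⟩
  obtain ⟨J, hJ⟩ := exists_isCompl (Submodule.span Z ({x'} : Set Z))
  obtain ⟨a, ha, b, hb, hab⟩ := Submodule.mem_sup.1
    ((hJ.sup_eq_top).ge (Submodule.mem_top : (1 : Z) ∈ (⊤ : Submodule Z Z)))
  obtain ⟨y, rfl⟩ := Submodule.mem_span_singleton.1 ha
  have hxb : x' * b = b * x' := Subtype.ext (hc _ hx _ b.2)
  have h0 : x' * b = 0 := by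
    have h1 : x' * b ∈ Submodule.span Z ({x'} : Set Z) ⊓ J :=
      ⟨hxb ▸ Submodule.smul_mem _ b (Submodule.mem_span_singleton_self x'), J.smul_mem x' hb⟩
    rw [hJ.inf_eq_bot, Submodule.mem_bot] at h1
    exact h1
  refine ⟨y.1, y.2, ?_⟩
  have h2 := congrArg (fun z : Z => (x' * z).1) hab
  simp only [mul_add, h0, add_zero, mul_one, smul_eq_mul] at h2
  have h3 : x * (y.1 * x) = x := h2
  rw [← hc x hx (y.1 * x) (Z.mul_mem y.2 hx)]
  exact h3

/-- The minimal idempotents of a commutative algebra normalised by an irreducible group. -/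
theorem exists_atoms [Finite F] {H : Subgroup (GL ι F)} {Z : Subalgebra F (Matrix ι ι F)}
    (hZ : H ≤ Cfsg.Geo.subalgebraNormalizer Z) (hc : ∀ x ∈ Z, ∀ y ∈ Z, x * y = y * x) :
    ∃ E : Finset (Matrix ι ι F), IsFamily H E ∧ (∀ e ∈ E, e ∈ Z) ∧
      (∀ e ∈ E, ∀ g ∈ Z, g * g = g → g * e = g → g = 0 ∨ g = e) ∧
      ∀ g ∈ Z, g * g = g → g ≠ 0 → (∀ g' ∈ Z, g' * g' = g' → g' * g = g' → g' = 0 ∨ g' = g) → g ∈ E := by
  classical
  haveI := Fintype.ofFinite F
  let A : Matrix ι ι F → Prop := fun e => e ∈ Z ∧ e * e = e ∧ e ≠ 0 ∧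
    ∀ g ∈ Z, g * g = g → g * e = g → g = 0 ∨ g = e
  let E : Finset (Matrix ι ι F) := Finset.univ.filter A
  have hmem : ∀ {e}, e ∈ E ↔ A e := fun {e} => by simp [E]
  have horth : ∀ e ∈ E, ∀ e' ∈ E, e ≠ e' → e * e' = 0 := by
    intro e he e' he' hne
    rw [hmem] at he he'
    have hcom := hc e he.1 e' he'.1
    have hid : e * e' * (e * e') = e * e' := by
      calc e * e' * (e * e') = e * (e' * e) * e' := by simp only [mul_assoc]
        _ = e * e * (e' * e') := by rw [← hcom]; simp only [mul_assoc]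
        _ = e * e' := by rw [he.2.1, he'.2.1]
    have h1 := he.2.2.2 (e * e') (Z.mul_mem he.1 he'.1) hid (by rw [mul_assoc, ← hcom, ← mul_assoc, he.2.1])
    have h2 := he'.2.2.2 (e * e') (Z.mul_mem he.1 he'.1) hid (by rw [mul_assoc, he'.2.1])
    rcases h1 with h1 | h1
    · exact h1
    rcases h2 with h2 | h2
    · exact h2
    exact absurd (h1.symm.trans h2) hne
  have hbelow : ∀ g ∈ Z, g * g = g → g ≠ 0 → ∃ e ∈ E, e * g = e := by
    intro g hg hgg hg0
    let S : Set (Matrix ι ι F) := {e | e ∈ Z ∧ e * e = e ∧ e ≠ 0 ∧ e * g = e}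
    obtain ⟨e, ⟨he, hee, he0, heg⟩, hmin⟩ :=
      (InvImage.wf (fun e : Matrix ι ι F => Module.finrank F (imOf e)) Nat.lt_wfRel.2).has_min S
        ⟨g, hg, hgg, hg0, hgg⟩
    refine ⟨e, hmem.2 ⟨he, hee, he0, fun a ha haa hae => ?_⟩, heg⟩
    by_cases ha0 : a = 0
    · exact Or.inl ha0
    refine Or.inr ?_
    have hle : imOf a ≤ imOf e := by
      intro v hv
      rw [mem_imOf_iff haa] at hv
      rw [mem_imOf_iff hee, ← hv, Matrix.mulVec_mulVec, hc e he a ha, hae]
    have hrk : Module.finrank F (imOf e) ≤ Module.finrank F (imOf a) :=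
      not_lt.1 (hmin a ⟨ha, haa, ha0, by rw [← hae, mul_assoc, heg]⟩)
    have heq := Submodule.eq_of_le_of_finrank_le hle hrk
    have hea : a * e = e := by
      apply Matrix.toLin'.injective
      refine LinearMap.ext fun v => ?_
      rw [Matrix.toLin'_apply, Matrix.toLin'_apply, ← Matrix.mulVec_mulVec]
      exact (mem_imOf_iff haa).1 (heq ▸ mulVec_mem_imOf e v)
    exact hae.symm.trans hea
  have hsum : ∑ e ∈ E, e = 1 := by
    set s := ∑ e ∈ E, e with hs
    have hsZ : s ∈ Z := Z.sum_mem fun e he => (hmem.1 he).1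
    have hes : ∀ e ∈ E, e * s = e := by
      intro e he
      rw [hs, Finset.mul_sum, Finset.sum_eq_single e (fun b hb hbe => horth e he b hb hbe.symm)
        (fun h => absurd he h), (hmem.1 he).2.1]
    have hss : s * s = s := by
      conv_lhs => arg 1; rw [hs]
      rw [Finset.sum_mul, Finset.sum_congr rfl hes]
    by_contra hne
    obtain ⟨e, he, hes'⟩ := hbelow (1 - s) (Z.sub_mem Z.one_mem hsZ)
      (by rw [sub_mul, one_mul, mul_sub, mul_one, hss, sub_self, sub_zero])
      (sub_ne_zero.2 (Ne.symm hne))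
    rw [mul_sub, mul_one, hes e he, sub_self] at hes'
    exact (hmem.1 he).2.2.1 hes'.symm
  refine ⟨E, ⟨fun e he => (hmem.1 he).2.1, fun e he => (hmem.1 he).2.2.1, horth, hsum,
    fun h hh e he => ?_⟩, fun e he => (hmem.1 he).1, fun e he => (hmem.1 he).2.2.2,
    fun g hg hgg hg0 hgmin => hmem.2 ⟨hg, hgg, hg0, hgmin⟩⟩
  obtain ⟨heZ, hee, he0, hemin⟩ := hmem.1 he
  refine hmem.2 ⟨((hZ hh) e).1 heZ, by simp [mat, mul_assoc, ← mul_assoc e e, hee], fun h0 => he0 ?_,
    fun g hg hgg hge => ?_⟩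
  · have := congrArg (fun M => mat h⁻¹ * M * mat h) h0
    simpa [mat, mul_assoc] using this
  · have hg' : mat h⁻¹ * g * mat h ∈ Z := (hZ hh _).2 (by
      show mat h * (mat h⁻¹ * g * mat h) * mat h⁻¹ ∈ Z
      simp [mat, mul_assoc, hg])
    rcases hemin _ hg' (by simp [mat, mul_assoc, ← mul_assoc g g, hgg]) (by
        have := congrArg (fun M => mat h⁻¹ * M * mat h) hge
        simpa [mat, mul_assoc] using this) with h1 | h1
    · left
      have := congrArg (fun M => mat h * M * mat h⁻¹) h1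
      simpa [mat, mul_assoc] using this
    · right
      have := congrArg (fun M => mat h * M * mat h⁻¹) h1
      simpa [mat, mul_assoc] using this

end CfsgLib.AschbacherForms
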