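import Cfsg.Agent.AschbacherForms.Idempotent
import Cfsg.Agent.Aschbacher.Tensor
import Cfsg.Agent.Aschbacher.Subfield

/-!
Maps of the shape `x ↦ x + φ x • v` avoid the geometric subgroups.
-/

set_option autoImplicit false
set_option linter.unusedSectionVars false
set_option linter.style.haveILetI false

namespace CfsgLib.AschbacherForms

open Matrix CfsgLib.Aschbacher
open scoped Kronecker

variable {ι : Type} [Fintype ι] [DecidableEq ι] {F : Type*} [Field F]
variable {g : GL ι F} {v : ι → F} {φ : Module.Dual F (ι → F)}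

theorem not_mem_subspaceStabilizer (hg : ∀ x, mat g *ᵥ x = x + φ x • v) {W : Submodule F (ι → F)}
    {w : ι → F} (hw : w ∈ W) (hφ : φ w ≠ 0) (hv : v ∉ W) : g ∉ Cfsg.Geo.subspaceStabilizer W := by
  intro h
  have h1 := mem_subspaceStabilizer_iff.1 h w hw
  rw [hg] at h1
  have h2 := W.sub_mem h1 hw
  rw [add_sub_cancel_left] at h2
  exact hv ((W.smul_mem_iff hφ).1 h2)

theorem not_mem_decompositionStabilizer (hg : ∀ x, mat g *ᵥ x = x + φ x • v) (hφ : φ ≠ 0) {t m : ℕ}
    {D : Fin t → Submodule F (ι → F)} (hD : Cfsg.Geo.IsMDecomposition m D) (hv : ∀ i, v ∉ D i)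
    (hm : 2 ≤ m ∨ ∀ i j, v ∉ D i ⊔ D j) : g ∉ Cfsg.Geo.decompositionStabilizer D := by
  rintro ⟨π, hπ⟩
  apply hφ
  have hmem : ∀ i, ∀ x ∈ D i, mat g *ᵥ x ∈ D (π i) := fun i x hx =>
    map_le_iff.1 (hπ i).le x hx
  have hfix : ∀ i, π i = i := by
    intro i
    by_contra hne
    have hdis : ∀ x, x ∈ D i → x ∈ D (π i) → x = 0 := fun x hx hx' =>
      Submodule.disjoint_def.1 (hD.indep.pairwiseDisjoint (Ne.symm hne)) x hx hx'
    have hzero : ∀ x ∈ D i, φ x = 0 → x = 0 := fun x hx hx0 => by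
      have h1 := hmem i x hx
      rw [hg, hx0, zero_smul, add_zero] at h1
      exact hdis x hx h1
    rcases hm with hm | hm
    · let L : D i →ₗ[F] F := φ.comp (D i).subtype
      have hinj : Function.Injective L := by
        rw [injective_iff_map_eq_zero]
        exact fun x hx => Subtype.ext (hzero x.1 x.2 hx)
      have := LinearMap.finrank_le_finrank_of_injective hinj
      rw [hD.finrank_eq, Module.finrank_self] at this
      omega
    · obtain ⟨x, hx, hx0⟩ := (Submodule.ne_bot_iff _).1 (fun h : D i = ⊥ => by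
        have := hD.finrank_eq i
        rw [h, finrank_bot] at this
        exact hD.pos.ne this)
      by_cases hφx : φ x = 0
      · exact hx0 (hzero x hx hφx)
      · refine hm (π i) i ((Submodule.smul_mem_iff _ hφx).1 ?_)
        have h2 : φ x • v = mat g *ᵥ x - x := by rw [hg, add_sub_cancel_left]
        rw [h2]
        exact Submodule.sub_mem _ (Submodule.mem_sup_left (hmem i x hx)) (Submodule.mem_sup_right hx)
  have hker : ∀ i, D i ≤ LinearMap.ker φ := by
    intro i x hx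
    rw [LinearMap.mem_ker]
    by_contra hne
    have h1 := hmem i x hx
    rw [hfix, hg] at h1
    have h2 := (D i).sub_mem h1 hx
    rw [add_sub_cancel_left] at h2
    exact hv i (((D i).smul_mem_iff hne).1 h2)
  refine LinearMap.ext fun x => ?_
  have hx : x ∈ LinearMap.ker φ := (iSup_le hker) (hD.iSup_eq_top ▸ Submodule.mem_top)
  simpa using hx

theorem not_mem_subalgebraNormalizer (hg : ∀ x, mat g *ᵥ x = x + φ x • v) (hφ : φ ≠ 0) (hv : v ≠ 0)
    (h3 : 3 ≤ Fintype.card ι) {r : ℕ} (hr : 2 ≤ r) {K : Subalgebra F (Matrix ι ι F)}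
    (hK : Cfsg.Geo.IsFieldSubalgebra r K) : g ∉ Cfsg.Geo.subalgebraNormalizer K := by
  intro h
  obtain ⟨z, hz⟩ : ∃ z, φ z ≠ 0 := by
    by_contra hn; push Not at hn; exact hφ (LinearMap.ext fun x => by simpa using hn x)
  have hinj : ∀ k ∈ K, k ≠ 0 → ∀ x : ι → F, k *ᵥ x = 0 → x = 0 := by
    intro k hk hk0 x hx
    obtain ⟨y, hy, hky⟩ := hK.inv k hk hk0
    rw [hK.comm k hk y hy] at hky
    calc x = (y * k) *ᵥ x := by rw [hky, Matrix.one_mulVec]
      _ = 0 := by rw [← Matrix.mulVec_mulVec, hx, Matrix.mulVec_zero]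
  have hcomm : ∀ k ∈ K, k * mat g = mat g * k := by
    intro k hk
    have hk' := (h k).1 hk
    by_cases heq : mat g * k * mat g⁻¹ = k
    · conv_lhs => rw [← heq]
      rw [mul_assoc, mat_inv_mul, mul_one]
    exfalso
    let d := mat g * k * mat g⁻¹ - k
    have hd : d ∈ K := K.sub_mem hk' hk
    have hd0 : d ≠ 0 := sub_ne_zero.2 heq
    let L : (ι → F) →ₗ[F] (Fin 2 → F) := LinearMap.pi ![φ, φ.comp (Matrix.toLin' k)]
    obtain ⟨x, hx, hx0⟩ := (Submodule.ne_bot_iff (LinearMap.ker L)).1 (fun hb => by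
      have := LinearMap.finrank_le_finrank_of_injective (LinearMap.ker_eq_bot.1 hb)
      rw [Module.finrank_fintype_fun_eq_card, Module.finrank_fintype_fun_eq_card, Fintype.card_fin] at this
      omega)
    have hx1 : φ x = 0 := congrFun (LinearMap.mem_ker.1 hx) 0
    have hx2 : φ (k *ᵥ x) = 0 := by
      have := congrFun (LinearMap.mem_ker.1 hx) 1
      simpa [L] using this
    have hgx : mat g *ᵥ x = x := by rw [hg, hx1, zero_smul, add_zero]
    refine hx0 (hinj d hd hd0 x ?_)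
    have hgi : mat g⁻¹ *ᵥ x = x := by
      conv_lhs => rw [← hgx]
      exact inv_mulVec_mulVec g x
    rw [Matrix.sub_mulVec, ← Matrix.mulVec_mulVec, hgi, ← Matrix.mulVec_mulVec, hg, hx2, zero_smul,
      add_zero, sub_self]
  have hscal : K ≤ ⊥ := by
    intro k hk
    have h1 : φ z • (k *ᵥ v) = φ (k *ᵥ z) • v := by
      have h2 := congrArg (fun M => M *ᵥ z) (hcomm k hk)
      simp only [← Matrix.mulVec_mulVec, hg, Matrix.mulVec_add, Matrix.mulVec_smul] at h2
      exact add_left_cancel h2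
    let c := (φ z)⁻¹ * φ (k *ᵥ z)
    have h2 : (k - c • (1 : Matrix ι ι F)) *ᵥ v = 0 := by
      rw [Matrix.sub_mulVec, Matrix.smul_mulVec, Matrix.one_mulVec, sub_eq_zero]
      calc k *ᵥ v = (φ z)⁻¹ • (φ z • (k *ᵥ v)) := by rw [smul_smul, inv_mul_cancel₀ hz, one_smul]
        _ = _ := by rw [h1, smul_smul]
    by_cases h0 : k - c • (1 : Matrix ι ι F) = 0
    · rw [sub_eq_zero] at h0
      exact Algebra.mem_bot.2 ⟨c, (Algebra.algebraMap_eq_smul_one c).trans h0.symm⟩
    · exact absurd (hinj _ (K.sub_mem hk (K.smul_mem K.one_mem c)) h0 v h2) hv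
  have h1 := hK.finrank_eq
  haveI : Nonempty ι := Fintype.card_pos_iff.1 (by omega)
  rw [le_bot_iff.1 hscal, Subalgebra.finrank_bot] at h1
  omega

theorem not_mem_tensorProductSubgroup (hg : ∀ x, mat g *ᵥ x = x + φ x • v) (hφ : φ ≠ 0) {k d : ℕ}
    {e : ι ≃ Fin k × Fin d} {P : GL ι F} {i₀ i₁ : Fin k} {j₀ j₁ : Fin d} (hi : i₀ ≠ i₁) (hj : j₀ ≠ j₁)
    (hv : mat P⁻¹ *ᵥ v = Pi.single (e.symm (i₀, j₀)) 1 + Pi.single (e.symm (i₁, j₁)) 1) :
    g ∉ Cfsg.Geo.tensorProductSubgroup k d e P := by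
  intro h
  obtain ⟨a, b, hab⟩ := exists_of_mem_tensorProductSubgroup h
  rw [tensorEquiv_apply] at hab
  let ψ : Fin k × Fin d → F := fun y => φ (mat P *ᵥ Pi.single (e.symm y) 1)
  let w : Fin k × Fin d → F := fun z => (if z = (i₀, j₀) then 1 else 0) + (if z = (i₁, j₁) then 1 else 0)
  have key : ∀ z y, mat a z.1 y.1 * mat b z.2 y.2 = (if z = y then 1 else 0) + ψ y * w z := by
    intro z y
    have h1 : (mat a ⊗ₖ mat b).submatrix e e = mat P⁻¹ * mat g * mat P := by
      rw [hab]; simp [mat, mul_assoc]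
    have h2 := congrFun (congrArg (fun M => M *ᵥ Pi.single (e.symm y) (1 : F)) h1) (e.symm z)
    simp only [Matrix.mulVec_single_one, Matrix.col_apply, Matrix.submatrix_apply,
      Equiv.apply_symm_apply, Matrix.kroneckerMap_apply] at h2
    rw [h2]
    have h3 : (mat P⁻¹ * mat g * mat P) *ᵥ Pi.single (e.symm y) 1 =
        Pi.single (e.symm y) 1 + ψ y • (mat P⁻¹ *ᵥ v) := by
      rw [← Matrix.mulVec_mulVec, ← Matrix.mulVec_mulVec, hg, Matrix.mulVec_add, inv_mulVec_mulVec,
        Matrix.mulVec_smul]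
    have h4 := congrFun h3 (e.symm z)
    rw [Matrix.mulVec_single_one, Matrix.col_apply] at h4
    rw [h4, hv]
    simp [w, Pi.single_apply, mul_add, mul_ite]
  have hid : ∀ y : Fin k × Fin d,
      (mat a i₀ y.1 * mat b j₀ y.2) * (mat a i₁ y.1 * mat b j₁ y.2) =
      (mat a i₀ y.1 * mat b j₁ y.2) * (mat a i₁ y.1 * mat b j₀ y.2) := fun y => by ring
  have hoff : ∀ y, y ≠ (i₀, j₀) → y ≠ (i₁, j₁) → ψ y = 0 := by
    intro y h0 h1
    have h := hid y
    have e1 := key (i₀, j₀) y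
    have e2 := key (i₁, j₁) y
    have e3 := key (i₀, j₁) y
    have e4 := key (i₁, j₀) y
    simp only [w, Prod.mk.injEq, hi, Ne.symm hi, hj, Ne.symm hj, false_and, and_false, if_false,
      and_self, if_true, add_zero, zero_add, mul_zero, mul_one, Ne.symm h0, Ne.symm h1] at e1 e2 e3 e4
    rw [e1, e2, e3, e4] at h
    by_cases h2 : (i₀, j₁) = y
    · have h3 : (i₁, j₀) ≠ y := fun h3 => hi (congrArg Prod.fst (h2.trans h3.symm))
      rw [if_neg h3, mul_zero] at h
      exact mul_self_eq_zero.1 h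
    · rw [if_neg h2, zero_mul] at h
      exact mul_self_eq_zero.1 h
  have h01 : mat a i₀ i₀ * mat b j₁ j₁ = 1 := by
    have e1 := key (i₀, j₁) (i₀, j₁)
    rw [hoff _ (fun h => hj (congrArg Prod.snd h).symm) (fun h => hi (congrArg Prod.fst h))] at e1
    simpa using e1
  have h10 : mat a i₁ i₁ * mat b j₀ j₀ = 1 := by
    have e1 := key (i₁, j₀) (i₁, j₀)
    rw [hoff _ (fun h => hi (congrArg Prod.fst h).symm) (fun h => hj (congrArg Prod.snd h))] at e1
    simpa using e1
  apply hφ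
  have hall : ∀ y, ψ y = 0 := by
    intro y
    by_cases h0 : y = (i₀, j₀)
    · subst h0
      have h := hid (i₀, j₀)
      have e1 := key (i₀, j₀) (i₀, j₀)
      have e2 := key (i₁, j₁) (i₀, j₀)
      have e3 := key (i₀, j₁) (i₀, j₀)
      simp only [w, Prod.mk.injEq, hi, Ne.symm hi, hj, Ne.symm hj, false_and, and_false, if_false,
        and_self, if_true, add_zero, zero_add, mul_zero, mul_one] at e1 e2 e3
      rw [e1, e2, e3, zero_mul] at h
      refine (mul_eq_zero.1 h).resolve_left fun h' => ?_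
      rw [← e1] at h'
      rcases mul_eq_zero.1 h' with h'' | h''
      · rw [h'', zero_mul] at h01; exact zero_ne_one h01
      · rw [h'', mul_zero] at h10; exact zero_ne_one h10
    by_cases h1 : y = (i₁, j₁)
    · subst h1
      have h := hid (i₁, j₁)
      have e1 := key (i₀, j₀) (i₁, j₁)
      have e2 := key (i₁, j₁) (i₁, j₁)
      have e3 := key (i₀, j₁) (i₁, j₁)
      simp only [w, Prod.mk.injEq, hi, Ne.symm hi, hj, Ne.symm hj, false_and, and_false, if_false,
        and_self, if_true, add_zero, zero_add, mul_zero, mul_one] at e1 e2 e3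
      rw [e1, e2, e3, zero_mul] at h
      refine (mul_eq_zero.1 h).resolve_right fun h' => ?_
      rw [← e2] at h'
      rcases mul_eq_zero.1 h' with h'' | h''
      · rw [h'', zero_mul] at h10; exact zero_ne_one h10
      · rw [h'', mul_zero] at h01; exact zero_ne_one h01
    exact hoff y h0 h1
  refine LinearMap.ext fun x => ?_
  rw [LinearMap.zero_apply, ← mulVec_inv_mulVec P x, pi_eq_sum_univ' (mat P⁻¹ *ᵥ x), Matrix.mulVec_sum,
    map_sum]
  refine Finset.sum_eq_zero fun i _ => ?_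
  rw [Matrix.mulVec_smul, map_smul]
  have := hall (e i)
  simp only [ψ, Equiv.symm_apply_apply] at this
  rw [this, smul_zero]

/-- A one-parameter family of such maps does not lie in a subfield group. -/
theorem not_forall_mem_subfieldSubgroup {F₀ : Subfield F} (hF₀ : F₀ ≠ ⊤) {P : GL ι F}
    (h2 : 2 ≤ Fintype.card ι) {i : ι} (hφ : φ ≠ 0) (hv : mat P⁻¹ *ᵥ v = Pi.single i 1)
    {G : F → GL ι F} (hG : ∀ c x, mat (G c) *ᵥ x = x + (c * φ x) • v) :
    ¬ ∀ c, G c ∈ Cfsg.Geo.subfieldSubgroup F₀ P := by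
  intro hall
  apply hF₀
  obtain ⟨z, hz⟩ : ∃ z, φ (mat P *ᵥ Pi.single z 1) ≠ 0 := by
    by_contra hn
    push Not at hn
    refine hφ (LinearMap.ext fun x => ?_)
    rw [LinearMap.zero_apply, ← mulVec_inv_mulVec P x, pi_eq_sum_univ' (mat P⁻¹ *ᵥ x), Matrix.mulVec_sum,
      map_sum]
    exact Finset.sum_eq_zero fun i _ => by rw [Matrix.mulVec_smul, map_smul, hn, smul_zero]
  obtain ⟨j, hji⟩ := Fintype.exists_ne_of_one_lt_card h2 i
  rw [eq_top_iff]
  intro c _
  obtain ⟨s, hs0, hs⟩ := exists_smul_of_mem_subfieldSubgroup (hall (c * (φ (mat P *ᵥ Pi.single z 1))⁻¹))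
  have hcol : ∀ y, (mat P⁻¹ * mat (G (c * (φ (mat P *ᵥ Pi.single z 1))⁻¹)) * mat P) *ᵥ Pi.single y 1 =
      Pi.single y 1 + (c * (φ (mat P *ᵥ Pi.single z 1))⁻¹ * φ (mat P *ᵥ Pi.single y 1)) • Pi.single i 1 := by
    intro y
    rw [← Matrix.mulVec_mulVec, ← Matrix.mulVec_mulVec, hG, Matrix.mulVec_add, inv_mulVec_mulVec,
      Matrix.mulVec_smul, hv]
  have hsF : s ∈ F₀ := by
    have h1 := hs j j
    have e1 := congrFun (hcol j) j
    rw [Matrix.mulVec_single_one, Matrix.col_apply] at e1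
    rw [e1] at h1
    simpa [hji] using h1
  have h1 := hs i z
  have e1 := congrFun (hcol z) i
  rw [Matrix.mulVec_single_one, Matrix.col_apply] at e1
  rw [e1, mul_assoc c, inv_mul_cancel₀ hz, mul_one] at h1
  have h3 : (Pi.single z (1 : F) : ι → F) i + c ∈ F₀ := by
    have h4 := F₀.mul_mem (F₀.inv_mem hsF) h1
    simpa [← mul_assoc, inv_mul_cancel₀ hs0] using h4
  have h5 : (Pi.single z (1 : F) : ι → F) i ∈ F₀ := by
    by_cases h : i = z <;> simp [h, F₀.one_mem, F₀.zero_mem]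
  simpa using F₀.sub_mem h3 h5

end CfsgLib.AschbacherForms
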