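import Cfsg.Agent.AschbacherForms.StarReduction

/-!
The reduction for isometry groups in dimension twelve.
-/

set_option autoImplicit false
set_option linter.unusedSectionVars false
set_option linter.style.haveILetI false

namespace CfsgLib.AschbacherForms

open Matrix CfsgLib.Aschbacher
open scoped Kronecker

variable {ι : Type} [Fintype ι] [DecidableEq ι] {F : Type*} [Field F]

/-- Interchanging the factors of a tensor decomposition of a form. -/
theorem formTensor_swap {σ : F ≃+* F} {f : (ι → F) → (ι → F) → F} {k d : ℕ} {e : ι ≃ Fin k × Fin d}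
    {P : GL ι F} {S : Matrix (Fin k) (Fin k) F} {T : Matrix (Fin d) (Fin d) F}
    (h : ∀ x y : Fin k × Fin d → F, f (mat P *ᵥ (x ∘ e)) (mat P *ᵥ (y ∘ e)) =
      Cfsg.Geo.formOfGram σ (S ⊗ₖ T) x y) (x y : Fin d × Fin k → F) :
    f (mat P *ᵥ (x ∘ e.trans (Equiv.prodComm _ _))) (mat P *ᵥ (y ∘ e.trans (Equiv.prodComm _ _))) =
      Cfsg.Geo.formOfGram σ (T ⊗ₖ S) x y := by
  have h1 := h (x ∘ Equiv.prodComm _ _) (y ∘ Equiv.prodComm _ _)
  rw [show x ∘ e.trans (Equiv.prodComm _ _) = (x ∘ Equiv.prodComm _ _) ∘ e from rfl,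
    show y ∘ e.trans (Equiv.prodComm _ _) = (y ∘ Equiv.prodComm _ _) ∘ e from rfl, h1,
    Cfsg.Geo.formOfGram, Cfsg.Geo.formOfGram]
  refine Fintype.sum_equiv (Equiv.prodComm _ _) _ _ fun a => ?_
  refine Fintype.sum_equiv (Equiv.prodComm _ _) _ _ fun b => ?_
  simp [Matrix.kroneckerMap_apply, mul_comm]

/-- The group stabilises a tensor decomposition of the form with the given dimensions. -/
def HasFormTensorOf (σ : F ≃+* F) (f : (ι → F) → (ι → F) → F) (H : Subgroup (GL ι F)) (k d : ℕ) :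
    Prop :=
  ∃ (e : ι ≃ Fin k × Fin d) (P : GL ι F) (S : Matrix (Fin k) (Fin k) F) (T : Matrix (Fin d) (Fin d) F),
    IsUnit S ∧ IsUnit T ∧ H ≤ Cfsg.Geo.tensorProductSubgroup k d e P ∧
    ∀ x y : Fin k × Fin d → F, f (mat P *ᵥ (x ∘ e)) (mat P *ᵥ (y ∘ e)) =
      Cfsg.Geo.formOfGram σ (S ⊗ₖ T) x y

theorem HasFormTensorOf.swap {σ : F ≃+* F} {f : (ι → F) → (ι → F) → F} {H : Subgroup (GL ι F)}
    {k d : ℕ} (h : HasFormTensorOf σ f H k d) : HasFormTensorOf σ f H d k := by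
  obtain ⟨e, P, S, T, hS, hT, hle, hf⟩ := h
  exact ⟨_, P, T, S, hT, hS, hle.trans (tensorProductSubgroup_swap e P), formTensor_swap hf⟩

/-- The outcomes of the reduction in dimension twelve. -/
theorem star_reduction_twelve [Fintype F] (h12 : Fintype.card ι = 12) {σ : F ≃+* F} {ε : F}
    {f : (ι → F) → (ι → F) → F} (hf : IsReflexive σ ε f) {H : Subgroup (GL ι F)}
    (hfix : Cfsg.Geo.FixesForm (Cfsg.Geo.matrixSet H) f)
    (hirr : Cfsg.Geo.ActsIrreducibly (Cfsg.Geo.matrixSet H)) :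
    (∃ (t m : ℕ) (D : Fin t → Submodule F (ι → F)), Cfsg.Geo.IsNondegenerateMDecomposition f m D ∧
      ((t = 12 ∧ m = 1) ∨ (t = 6 ∧ m = 2) ∨ (t = 4 ∧ m = 3) ∨ (t = 3 ∧ m = 4) ∨ (t = 2 ∧ m = 6)) ∧
      H ≤ Cfsg.Geo.decompositionStabilizer D) ∨
    (∃ D : Fin 2 → Submodule F (ι → F), Cfsg.Geo.IsMDecomposition 6 D ∧
      (∀ i, Cfsg.Geo.IsTotallySingularFor f (D i)) ∧ H ≤ Cfsg.Geo.decompositionStabilizer D ∧
      ∀ Q : (ι → F) → F, Cfsg.Geo.IsNondegenerateQuadraticForm Q → (∀ u v, QuadraticMap.polar Q u v = f u v) →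
        Cfsg.Geo.FixesQuadForm (Cfsg.Geo.matrixSet H) Q → ∀ i, Cfsg.Geo.IsTotallySingularQuad Q (D i)) ∨
    (∃ (r : ℕ) (K : Subalgebra F (Matrix ι ι F)), (r = 2 ∨ r = 3) ∧ Cfsg.Geo.IsFieldSubalgebra r K ∧
      H ≤ Cfsg.Geo.subalgebraNormalizer K ∧ ∀ k ∈ K, adj σ f k ∈ K) ∨
    (HasFormTensorOf σ f H 2 6 ∨ HasFormTensorOf σ f H 3 4) ∨
    ∃ P, IsSimpleCore H P := by
  rcases star_reduction (by omega) hf hfix hirr with ⟨t, m, D, hD, htm, hst⟩ |
    ⟨m, D, hD, hm, hts, hle, hQ⟩ | ⟨r, K, hr, hrd, hK, hle, hadj⟩ |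
    ⟨k, d, e, P, S, T, hk, hd, hkd, hS, hT, hle, hform⟩ | ⟨N, r, m, hr, hm, -⟩ |
    ⟨d, t, φ, hd, ht, hdt, -⟩ | h
  · refine Or.inl ⟨t, m, D, hD, ?_, hst⟩
    rw [h12] at htm
    have ht := hD.decomp.two_le
    have ht12 : t ≤ 12 := Nat.le_of_dvd (by norm_num) ⟨m, htm.symm⟩
    interval_cases t <;> omega
  · obtain rfl : m = 6 := by omega
    exact Or.inr (Or.inl ⟨D, hD, hts, hle, hQ⟩)
  · refine Or.inr (Or.inr (Or.inl ⟨r, K, ?_, hK, hle, hadj⟩))
    rw [h12] at hrd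
    have := Nat.le_of_dvd (by norm_num) hrd
    interval_cases r <;> first | omega | exact absurd hr (by norm_num) | exact absurd hrd (by norm_num)
  · refine Or.inr (Or.inr (Or.inr (Or.inl ?_)))
    rw [h12] at hkd
    have hkd' : HasFormTensorOf σ f H k d := ⟨e, P, S, T, hS, hT, hle, hform⟩
    have hk12 : k ≤ 6 := by nlinarith
    interval_cases k
    · obtain rfl : d = 6 := by omega
      exact Or.inl hkd'
    · obtain rfl : d = 4 := by omega
      exact Or.inr hkd'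
    · obtain rfl : d = 3 := by omega
      exact Or.inr hkd'.swap
    · omega
    · obtain rfl : d = 2 := by omega
      exact Or.inl hkd'.swap
  · exfalso
    rw [h12] at hm
    have h2 : 2 ∣ r := Nat.prime_two.dvd_of_dvd_pow (hm ▸ by norm_num : 2 ∣ r ^ m)
    have h3 : 3 ∣ r := Nat.prime_three.dvd_of_dvd_pow (hm ▸ by norm_num : 3 ∣ r ^ m)
    have := (Nat.prime_dvd_prime_iff_eq Nat.prime_two hr).1 h2
    have := (Nat.prime_dvd_prime_iff_eq Nat.prime_three hr).1 h3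
    omega
  · exfalso
    rw [h12] at hdt
    have h2 : d ^ 2 ≤ d ^ t := Nat.pow_le_pow_right (by omega) ht
    have hd3 : d ≤ 3 := by nlinarith
    have htt : t ≤ 3 := by
      by_contra h
      have h4 : 2 ^ 4 ≤ d ^ t :=
        le_trans (Nat.pow_le_pow_left hd 4) (Nat.pow_le_pow_right (by omega) (by omega))
      omega
    interval_cases d <;> interval_cases t <;> norm_num at hdt
  · exact Or.inr (Or.inr (Or.inr (Or.inr h)))

end CfsgLib.AschbacherForms
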