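import Cfsg.Agent.AschbacherForms.Adjoint
import Cfsg.Agent.AschbacherForms.Descent
import Cfsg.Agent.Aschbacher.Subfield
import Cfsg.Agent.MaxSub.UnitaryBasic

/-!
Normalising the scalar of a rational structure of a unitary form, and quadratic extension fields closed
under the adjoint of a unitary form.
-/

set_option autoImplicit false
set_option linter.unusedSectionVars false
set_option linter.style.haveILetI false

namespace CfsgLib.AschbacherForms

open Matrix CfsgLib.Aschbacher

variable {ι : Type} [Fintype ι] [DecidableEq ι] {F : Type*} [Field F]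
variable {σ : F ≃+* F} {f : (ι → F) → (ι → F) → F}

/-- An element of norm one in a subfield moved by the involution is a quotient of conjugates in the
subfield. -/
theorem exists_hilbert90 {F₁ : Subfield F} (hmap : ∀ x ∈ F₁, σ x ∈ F₁) (hinv : ∀ x, σ (σ x) = x)
    (hmov : ∃ w ∈ F₁, σ w ≠ w) {a : F} (ha : a ∈ F₁) (hn : a * σ a = 1) :
    ∃ l ∈ F₁, l ≠ 0 ∧ a * σ l = l := by
  obtain ⟨w, hw, hwσ⟩ := hmov
  have key : ∀ x, a * σ (x + a * σ x) = x + a * σ x := fun x => by
    rw [map_add, map_mul, hinv, mul_add, ← mul_assoc, hn, one_mul, add_comm]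
  by_cases h1 : (1 : F) + a * σ 1 = 0
  · refine ⟨w + a * σ w, F₁.add_mem hw (F₁.mul_mem ha (hmap w hw)), fun h => hwσ ?_, key w⟩
    rw [map_one, mul_one] at h1
    rw [show a = -1 by linear_combination h1] at h
    linear_combination -h
  · exact ⟨1 + a * σ 1, F₁.add_mem F₁.one_mem (F₁.mul_mem ha (hmap 1 F₁.one_mem)), h1, key 1⟩

theorem subfieldSubgroup_scalar_mul (F₁ : Subfield F) (P : GL ι F) {c : GL ι F}
    (hc : c ∈ Cfsg.Geo.scalars ι F) :
    Cfsg.Geo.subfieldSubgroup F₁ (c * P) = Cfsg.Geo.subfieldSubgroup F₁ P := by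
  have h : (MulAut.conj (c * P)).toMonoidHom = (MulAut.conj P).toMonoidHom := by
    refine MonoidHom.ext fun x => ?_
    show c * P * x * (c * P)⁻¹ = P * x * P⁻¹
    obtain ⟨d, hd⟩ := (Cfsg.Geo.mem_scalars_iff c).1 hc
    have hcomm : ∀ y : GL ι F, c * y = y * c := fun y =>
      Units.ext (by rw [Units.val_mul, Units.val_mul, hd, Matrix.smul_mul, one_mul, Matrix.mul_smul, mul_one])
    rw [_root_.mul_inv_rev, show c * P * x = P * x * c by rw [mul_assoc, hcomm],
      mul_assoc (P * x) c, ← mul_assoc c, hcomm, mul_inv_cancel_right]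
  rw [Cfsg.Geo.subfieldSubgroup, h, Cfsg.Geo.subfieldSubgroup]

theorem exists_rational_scaled [Finite F] (hf : Cfsg.Geo.IsUnitaryForm σ f) {F₁ : Subfield F} {ζ : F}
    (hζ : ζ ≠ 0) (hfix : σ ζ = ζ) {P : GL ι F} (hrat : Cfsg.Geo.IsFormRationalStructure f F₁ ζ P) :
    ∃ P' : GL ι F, Cfsg.Geo.IsFormRationalStructure f F₁ 1 P' ∧
      Cfsg.Geo.subfieldSubgroup F₁ P' = Cfsg.Geo.subfieldSubgroup F₁ P := by
  obtain ⟨s, hs⟩ := MaxSub.norm_surjective hf.ne_refl hf.involutive hfix
  have hs0 : s ≠ 0 := by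
    rintro rfl
    exact hζ (by rw [← hs, zero_mul])
  let c : GL ι F := Units.map (Matrix.scalar ι : F →+* Matrix ι ι F).toMonoidHom (Units.mk0 s hs0)
  refine ⟨c * P, fun u v hu hv => ?_, subfieldSubgroup_scalar_mul F₁ P ⟨_, rfl⟩⟩
  have e : ∀ y, ((c * P : GL ι F) : Matrix ι ι F) *ᵥ y = s • ((P : Matrix ι ι F) *ᵥ y) := fun y => by
    rw [Units.val_mul, ← Matrix.mulVec_mulVec]
    show Matrix.scalar ι s *ᵥ _ = _
    funext i
    simp [Matrix.mulVec_diagonal]
  have hsq := (isSesq_of_unitary hf)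
  rw [one_mul, e, e, hf.smul_left, hsq.smul_right, ← mul_assoc, hs]
  exact hrat u v hu hv

/-- The multiplier of a rational structure can be taken to be fixed when the involution moves the subfield, and
fixed or negated when it fixes it. -/
theorem rational_multiplier [Finite F] [Nonempty ι] (hf : Cfsg.Geo.IsUnitaryForm σ f) {F₁ : Subfield F}
    {ζ : F} (hζ : ζ ≠ 0) {P : GL ι F} (hrat : Cfsg.Geo.IsFormRationalStructure f F₁ ζ P) :
    (∃ P' : GL ι F, Cfsg.Geo.IsFormRationalStructure f F₁ 1 P' ∧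
      Cfsg.Geo.subfieldSubgroup F₁ P' = Cfsg.Geo.subfieldSubgroup F₁ P) ∨
    ((∀ x ∈ F₁, σ x = x) ∧ σ ζ = -ζ) := by
  classical
  have hr := isReflexive_unitary hf
  obtain ⟨v, hv⟩ := exists_ne (0 : ι → F)
  obtain ⟨i, j, hij⟩ : ∃ i j, f (mat P *ᵥ Pi.single i 1) (mat P *ᵥ Pi.single j 1) ≠ 0 := by
    by_contra hall
    push Not at hall
    have hr' : IsSesq σ (fun x y => f (mat P *ᵥ x) (mat P *ᵥ y)) :=
      { add_left := fun x y w => by simp [Matrix.mulVec_add, hf.add_left]
        smul_left := fun c x w => by simp [Matrix.mulVec_smul, hf.smul_left]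
        add_right := fun w x y => by simp [Matrix.mulVec_add, hr.sesq.add_right]
        smul_right := fun c w x => by simp [Matrix.mulVec_smul, hr.sesq.smul_right] }
    obtain ⟨⟨x, hx⟩, -⟩ := hf.nondegenerate v hv
    refine hx ?_
    rw [← mulVec_inv_mulVec P x, ← mulVec_inv_mulVec P v]
    refine (hr'.gram_eq _ _).trans ?_
    rw [show Cfsg.Geo.gramMatrix (fun x y => f (mat P *ᵥ x) (mat P *ᵥ y)) = 0 from
      Matrix.ext fun a b => hall a b]
    simp
  have hmem : ∀ k l, ζ * f (mat P *ᵥ Pi.single k 1) (mat P *ᵥ Pi.single l 1) ∈ F₁ := fun k l =>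
    hrat _ _ (fun m => by by_cases h : m = k <;> simp [h, F₁.one_mem, F₁.zero_mem])
      (fun m => by by_cases h : m = l <;> simp [h, F₁.one_mem, F₁.zero_mem])
  set a := ζ / σ ζ with ha
  have hσζ : σ ζ ≠ 0 := fun h => hζ (σ.injective (h.trans (map_zero σ).symm))
  have han : a * σ a = 1 := by
    rw [ha, map_div₀, hf.involutive]
    field_simp
  have haF : a ∈ F₁ := by
    have h1 := hmem i j
    have h2 := map_mem_subfield σ (hmem j i)
    rw [map_mul, ← hf.herm] at h2
    have h3 := F₁.div_mem h1 h2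
    rwa [mul_div_mul_right _ _ hij, ← ha] at h3
  by_cases hmov : ∃ w ∈ F₁, σ w ≠ w
  · obtain ⟨l, hl, hl0, hal⟩ := exists_hilbert90 (fun x hx => map_mem_subfield σ hx) hf.involutive hmov haF han
    refine Or.inl ?_
    have hζ' : σ (ζ / l) = ζ / l := by
      have hσl : σ l ≠ 0 := fun h => hl0 (σ.injective (h.trans (map_zero σ).symm))
      rw [map_div₀]
      rw [ha] at hal
      field_simp at hal ⊢
      linear_combination -hal
    refine exists_rational_scaled hf (div_ne_zero hζ hl0) hζ' fun u v hu hv => ?_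
    rw [div_mul_eq_mul_div]
    exact F₁.div_mem (hrat u v hu hv) hl
  · push Not at hmov
    rw [hmov a haF, mul_self_eq_one_iff] at han
    rcases han with h1 | h1
    · refine Or.inl (exists_rational_scaled hf hζ ?_ hrat)
      rw [ha, div_eq_one_iff_eq hσζ] at h1
      exact h1.symm
    · refine Or.inr ⟨hmov, ?_⟩
      rw [ha, div_eq_iff hσζ] at h1
      linear_combination h1

/-- In odd characteristic the form vanishes on the diagonal of a structure with negated multiplier. -/
theorem diag_zero_of_neg (hf : Cfsg.Geo.IsUnitaryForm σ f) (h2 : (2 : F) ≠ 0) {F₁ : Subfield F} {ζ : F}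
    (hζ : ζ ≠ 0) (hσ : ∀ x ∈ F₁, σ x = x) (hneg : σ ζ = -ζ) {P : GL ι F}
    (hrat : Cfsg.Geo.IsFormRationalStructure f F₁ ζ P) {u : ι → F} (hu : ∀ i, u i ∈ F₁) :
    f (mat P *ᵥ u) (mat P *ᵥ u) = 0 := by
  have h1 := hσ _ (hrat u u hu hu)
  rw [map_mul, hneg, ← hf.herm] at h1
  have h3 : (2 : F) * ζ * f (mat P *ᵥ u) (mat P *ᵥ u) = 0 := by linear_combination -h1
  exact (mul_eq_zero.1 h3).resolve_left (mul_ne_zero h2 hζ)

/-- In characteristic two an irreducible group makes the form vanish on the diagonal. -/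
theorem diag_zero_of_two [Fintype F] (hf : Cfsg.Geo.IsUnitaryForm σ f) (h2 : (2 : F) = 0)
    {F₁ : Subfield F} {ζ : F} (hζ : ζ ≠ 0) (hσ : ∀ x ∈ F₁, σ x = x) (hfixζ : σ ζ = ζ)
    {P : GL ι F} (hcard : Fintype.card F < Nat.card F₁ ^ Fintype.card ι)
    (hrat : Cfsg.Geo.IsFormRationalStructure f F₁ ζ P) {H : Subgroup (GL ι F)}
    (hfix : Cfsg.Geo.FixesForm (Cfsg.Geo.matrixSet H) f)
    (hirr : Cfsg.Geo.ActsIrreducibly (Cfsg.Geo.matrixSet H))
    (hle : H ≤ Cfsg.Geo.subfieldSubgroup F₁ P) {u : ι → F} (hu : ∀ i, u i ∈ F₁) :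
    f (mat P *ᵥ u) (mat P *ᵥ u) = 0 := by
  classical
  have hs := isSesq_of_unitary hf
  let q : (ι → F) → F := fun x => f (mat P *ᵥ x) (mat P *ᵥ x)
  let U : Set (ι → F) := {x | (∀ i, x i ∈ F₁) ∧ q x = 0}
  have hadd : ∀ x y : ι → F, (∀ i, x i ∈ F₁) → (∀ i, y i ∈ F₁) → q (x + y) = q x + q y := by
    intro x y hx hy
    have h1 := hσ _ (hrat x y hx hy)
    rw [map_mul, hfixζ, ← hf.herm] at h1
    simp only [q, Matrix.mulVec_add, hs.add_left, hs.add_right]
    rw [mul_left_cancel₀ hζ h1]
    linear_combination (f (mat P *ᵥ x) (mat P *ᵥ y)) * h2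
  have hsmul : ∀ (c : F) (x : ι → F), q (c • x) = c * σ c * q x := by
    intro c x
    simp only [q, Matrix.mulVec_smul, hs.smul_left, hs.smul_right]
    ring
  have hUadd : ∀ x ∈ U, ∀ y ∈ U, x + y ∈ U := fun x hx y hy =>
    ⟨fun i => F₁.add_mem (hx.1 i) (hy.1 i), by rw [hadd x y hx.1 hy.1, hx.2, hy.2, add_zero]⟩
  have hUsmul : ∀ c ∈ F₁, ∀ x ∈ U, c • x ∈ U := fun c hc x hx =>
    ⟨fun i => F₁.mul_mem hc (hx.1 i), by rw [hsmul, hx.2, mul_zero]⟩
  obtain ⟨z, hz, hz0⟩ : ∃ z ∈ U, z ≠ 0 := by
    have hlt : Fintype.card F < Fintype.card (ι → F₁) := by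
      rwa [Fintype.card_fun, ← Nat.card_eq_fintype_card (α := F₁)]
    obtain ⟨x, y, hxy, hq⟩ := Fintype.exists_ne_map_eq_of_card_lt
      (fun x : ι → F₁ => q fun i => (x i : F)) hlt
    refine ⟨(fun i => (x i : F)) + fun i => (y i : F), ⟨fun i => F₁.add_mem (x i).2 (y i).2, ?_⟩, fun h => hxy ?_⟩
    · rw [hadd _ _ (fun i => (x i).2) (fun i => (y i).2)]
      rw [hq]
      linear_combination (q fun i => (y i : F)) * h2
    · funext i
      refine Subtype.ext ?_
      have h3 := congrFun h i
      simp only [Pi.add_apply, Pi.zero_apply] at h3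
      linear_combination h3 - (y i : F) * h2
  let W := Submodule.span F U
  have hinv : H ≤ Cfsg.Geo.subspaceStabilizer (W.map (Matrix.toLin' (mat P))) := by
    intro g hg
    rw [mem_subspaceStabilizer_iff]
    rintro _ ⟨w, hw, rfl⟩
    refine Submodule.span_induction ?_ ?_ ?_ ?_ hw
    · intro x hx
      obtain ⟨c, hc0, hc⟩ := exists_smul_of_mem_subfieldSubgroup (hle hg)
      refine ⟨c⁻¹ • (c • ((mat P⁻¹ * mat g * mat P) *ᵥ x)), Submodule.smul_mem _ _ (Submodule.subset_span ⟨fun i => ?_, ?_⟩), ?_⟩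
      · rw [Pi.smul_apply, smul_eq_mul, Matrix.mulVec, dotProduct, Finset.mul_sum]
        exact F₁.sum_mem fun j _ => by rw [← mul_assoc]; exact F₁.mul_mem (hc i j) (hx.1 j)
      · rw [hsmul]
        simp only [q, ← Matrix.mulVec_mulVec, mulVec_inv_mulVec]
        rw [hfix _ (mem_matrixSet hg)]
        exact mul_eq_zero_of_right _ hx.2
      · rw [smul_smul, inv_mul_cancel₀ hc0, one_smul, Matrix.toLin'_apply, Matrix.toLin'_apply,
          ← Matrix.mulVec_mulVec, ← Matrix.mulVec_mulVec, mulVec_inv_mulVec]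
    · simp
    · intro x y _ _ hx hy
      rw [map_add, Matrix.mulVec_add]
      exact Submodule.add_mem _ hx hy
    · intro c x _ hx
      rw [map_smul, Matrix.mulVec_smul]
      exact Submodule.smul_mem _ _ hx
  have hinj : Function.Injective (Matrix.toLin' (mat P)) := fun a b h => by
    rw [Matrix.toLin'_apply, Matrix.toLin'_apply] at h
    exact mulVec_injective P h
  rcases (actsIrreducibly_iff.1 hirr) _ hinv with h | h
  · exact absurd (Submodule.subset_span hz : z ∈ W) fun hzW => hz0 (hinj (by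
      have h4 : Matrix.toLin' (mat P) z ∈ W.map (Matrix.toLin' (mat P)) := ⟨z, hzW, rfl⟩
      rw [h, Submodule.mem_bot] at h4
      rw [h4, map_zero]))
  · obtain ⟨w, hw, hwu⟩ := (h ▸ Submodule.mem_top :
      Matrix.toLin' (mat P) u ∈ W.map (Matrix.toLin' (mat P)))
    rw [SetLike.mem_coe, hinj hwu] at hw
    obtain ⟨L, hL, -⟩ := Submodule.exists_dual_map_eq_bot_of_notMem
      (R := F₁) (p := (⊥ : Submodule F₁ F)) (x := (1 : F)) (by simp) inferInstance
    let θ : F → F := fun d => (L d : F) / (L 1 : F)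
    have hθF : ∀ d, θ d ∈ F₁ := fun d => F₁.div_mem (L d).2 (L 1).2
    have hθmul : ∀ c ∈ F₁, ∀ d, θ (c * d) = c * θ d := fun c hc d => by
      have e : (L (c * d) : F) = c * (L d : F) := congrArg Subtype.val (L.map_smul (⟨c, hc⟩ : F₁) d)
      simp only [θ, e, mul_div_assoc]
    have hθid : ∀ c ∈ F₁, θ c = c := fun c hc => by
      have h4 := hθmul c hc 1
      rw [mul_one] at h4
      rw [h4]
      simp only [θ]
      rw [div_self (fun h5 => hL (Subtype.ext h5)), mul_one]
    have key : ∀ d : F, (fun i => θ (d * u i)) ∈ U := by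
      refine Submodule.span_induction (p := fun x _ => ∀ d : F, (fun i => θ (d * x i)) ∈ U) ?_ ?_ ?_ ?_ hw
      · intro x hx d
        have h4 : (fun i => θ (d * x i)) = θ d • x := by
          funext i
          rw [Pi.smul_apply, smul_eq_mul, mul_comm d, hθmul _ (hx.1 i), mul_comm]
        rw [h4]
        exact hUsmul _ (hθF d) x hx
      · intro d
        have h4 : (fun i => θ (d * (0 : ι → F) i)) = 0 := funext fun i => by simp [θ]
        rw [h4]
        exact ⟨fun i => F₁.zero_mem, by simp [q, hs.zero_left]⟩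
      · intro x y _ _ hx hy d
        have h4 : (fun i => θ (d * (x + y) i)) = (fun i => θ (d * x i)) + fun i => θ (d * y i) := by
          funext i
          simp [θ, mul_add, add_div]
        rw [h4]
        exact hUadd _ (hx d) _ (hy d)
      · intro c x _ hx d
        simpa [mul_assoc] using hx (d * c)
    have h5 := (key 1).2
    have h6 : (fun i => θ (1 * u i)) = u := funext fun i => by rw [one_mul, hθid _ (hu i)]
    rwa [h6] at h5

/-- No extension field of degree two is closed under the adjoint of a unitary form. -/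
theorem not_adjClosed_degree_two [Fintype F] [Nonempty ι] (hf : Cfsg.Geo.IsUnitaryForm σ f)
    {K : Subalgebra F (Matrix ι ι F)} (hK : Cfsg.Geo.IsFieldSubalgebra 2 K)
    (hadj : ∀ k ∈ K, adj σ f k ∈ K) : False := by
  classical
  have hr := isReflexive_unitary hf
  letI : CommRing K := { (inferInstance : Ring K) with mul_comm := fun a b => Subtype.ext (hK.comm _ a.2 _ b.2) }
  have hfield : IsField K :=
    { exists_pair_ne := ⟨0, 1, fun h => zero_ne_one (congrArg Subtype.val h)⟩
      mul_comm := fun a b => Subtype.ext (hK.comm _ a.2 _ b.2)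
      mul_inv_cancel := fun {a} ha => by
        obtain ⟨y, hy, hay⟩ := hK.inv _ a.2 (fun h => ha (Subtype.ext h))
        exact ⟨⟨y, hy⟩, Subtype.ext hay⟩ }
  letI : Field K := hfield.toField
  haveI : Fintype K := Fintype.ofFinite _
  let τ : K →+* K :=
    { toFun := fun x => ⟨adj σ f x.1, hadj _ x.2⟩
      map_one' := Subtype.ext hr.adj_one
      map_mul' := fun x y => Subtype.ext (by
        show adj σ f (x.1 * y.1) = adj σ f x.1 * adj σ f y.1
        rw [hr.adj_mul, hK.comm _ (hadj _ y.2) _ (hadj _ x.2)])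
      map_zero' := Subtype.ext hr.adj_zero
      map_add' := fun x y => Subtype.ext (hr.adj_add _ _) }
  have hττ : ∀ x, τ (τ x) = x := fun x => Subtype.ext (hr.adj_adj _)
  obtain ⟨a, ha⟩ := MaxSub.exists_moved hf.ne_refl
  have hτc : ∀ c : F, τ (algebraMap F K c) = algebraMap F K (σ c) := fun c => Subtype.ext (by
    show adj σ f (algebraMap F (Matrix ι ι F) c) = algebraMap F (Matrix ι ι F) (σ c)
    rw [Algebra.algebraMap_eq_smul_one, Algebra.algebraMap_eq_smul_one, hr.adj_smul, hr.adj_one])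
  let A := algebraMap F K a
  have hA : τ A ≠ A := fun h => ha ((algebraMap F K).injective (by rw [← hτc]; exact h))
  let U : Subfield K := τ.eqLocusField (RingHom.id K)
  haveI : Fintype U := Fintype.ofFinite _
  have hU : ∀ x : U, τ (x : K) = (x : K) := fun x => x.2
  have hcardK : Fintype.card K = Fintype.card F ^ 2 := by
    rw [Module.card_eq_pow_finrank (K := F) (V := K), hK.finrank_eq]
  let ψ : U × U → K := fun p => (p.1 : K) + A * (p.2 : K)
  have hψ : Function.Bijective ψ := by
    constructor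
    · intro p p' h
      have h1 := congrArg τ h
      simp only [ψ, map_add, map_mul, hU] at h1
      simp only [ψ] at h
      have h2 : (τ A - A) * ((p.2 : K) - p'.2) = 0 := by linear_combination h1 - h
      have h3 := sub_eq_zero.1 ((mul_eq_zero.1 h2).resolve_left (sub_ne_zero.2 hA))
      refine Prod.ext (Subtype.ext ?_) (Subtype.ext h3)
      rw [h3] at h
      exact add_right_cancel h
    · intro w
      set z := (w - τ w) / (A - τ A) with hz
      have hzU : τ z = z := by
        rw [hz, map_div₀, map_sub, map_sub, hττ, hττ]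
        rw [← neg_sub w (τ w), ← neg_sub A (τ A), neg_div_neg_eq]
      have hyU : τ (w - A * z) = w - A * z := by
        rw [map_sub, map_mul, hzU]
        have h4 : (A - τ A) * z = w - τ w := by
          rw [hz, mul_div_cancel₀ _ (sub_ne_zero.2 (Ne.symm hA))]
        linear_combination h4
      exact ⟨(⟨w - A * z, hyU⟩, ⟨z, hzU⟩), by simp [ψ]⟩
  have hcardU : Fintype.card U = Fintype.card F := by
    refine Nat.pow_left_injective two_ne_zero ?_
    show Fintype.card U ^ 2 = Fintype.card F ^ 2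
    rw [← hcardK, ← Fintype.card_of_bijective hψ, Fintype.card_prod, sq]
  have hQ : 1 < Fintype.card F := Fintype.one_lt_card
  let P : Polynomial K := Polynomial.X ^ Fintype.card F - Polynomial.X
  have hP0 : P ≠ 0 := FiniteField.X_pow_card_sub_X_ne_zero K hQ
  have hroot : ∀ x : K, x ^ Fintype.card F = x → x ∈ P.roots.toFinset := fun x hx => by
    rw [Multiset.mem_toFinset, Polynomial.mem_roots hP0]
    simp [P, hx]
  have hle : P.roots.toFinset.card ≤ Fintype.card F :=
    (Multiset.toFinset_card_le _).trans ((Polynomial.card_roots' _).trans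
      (FiniteField.X_pow_card_sub_X_natDegree_eq K hQ).le)
  have himg : Finset.univ.image (algebraMap F K) = P.roots.toFinset := by
    refine Finset.eq_of_subset_of_card_le (fun x hx => ?_) ?_
    · obtain ⟨c, -, rfl⟩ := Finset.mem_image.1 hx
      exact hroot _ (by rw [← map_pow, FiniteField.pow_card])
    · rwa [Finset.card_image_of_injective _ (algebraMap F K).injective, Finset.card_univ]
  have hUle : (Finset.univ.image fun x : U => (x : K)) = P.roots.toFinset := by
    refine Finset.eq_of_subset_of_card_le (fun x hx => ?_) ?_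
    · obtain ⟨c, -, rfl⟩ := Finset.mem_image.1 hx
      refine hroot _ ?_
      have := congrArg Subtype.val (FiniteField.pow_card c)
      rwa [hcardU] at this
    · rwa [Finset.card_image_of_injective _ Subtype.val_injective, Finset.card_univ, hcardU]
  have hAU : A ∈ Finset.univ.image fun x : U => (x : K) := by
    rw [hUle, ← himg]
    exact Finset.mem_image_of_mem _ (Finset.mem_univ a)
  obtain ⟨x, -, hx⟩ := Finset.mem_image.1 hAU
  exact hA (hx ▸ hU x)

end CfsgLib.AschbacherForms
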